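import Cfsg.Agent.Lib.OddPairs.Flat

/-!
# Two subgroups of odd order sharing two members

In a critical group, the subgroup `Y c` attached to a central element `c` of a pair contains every
`c`-invariant odd subgroup sharing two members with it.
-/

set_option autoImplicit false
set_option linter.unusedSectionVars false
set_option linter.style.haveILetI false

namespace Cfsg.Agent.OddPairs

open scoped commutatorElement

universe u

variable {G : Type u} [Group G] [Finite G] {p q : ℕ} {D : Set (Subgroup G)}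

/-- A smallest counterexample. -/
structure Critical (p q : ℕ) (D : Set (Subgroup G)) : Prop where
  sys : PairSys p q D
  gen_top : sSup D = ⊤
  even : ¬ Odd (Nat.card G)
  ih : ∀ H : Subgroup G, H ≠ ⊤ → gen D H = H → (pts D H).Nonempty → Odd (Nat.card H)
  no_q : ∀ N : Subgroup G, N.Normal → IsPGroup q N → N = ⊥
  center_bot : Subgroup.center G = ⊥

/-- The odd subgroup of `c`. -/
def Y (D : Set (Subgroup G)) (c : G) : Subgroup G := gen D (Subgroup.centralizer ({c} : Set G))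

/-- The centraliser of `A` in the `q`-part. -/
def theta (q : ℕ) (A H : Subgroup G) : Subgroup G :=
  qPart q H ⊓ Subgroup.centralizer (A : Set G)

/-- `c` is a non-trivial central element of some pair through `A`. -/
structure Good (q : ℕ) (D : Set (Subgroup G)) (A : Subgroup G) (c : G) : Prop where
  mem : A ∈ D
  ne_one : c ≠ 1
  comm : ∀ a ∈ A, Commute a c
  mem_qPart : c ∈ qPart q (Y D c)

/-- An odd subgroup generated by members of `D`, with a base point. -/
structure FlatAt (D : Set (Subgroup G)) (A H : Subgroup G) : Prop where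
  mem : A ∈ D
  gen_eq : gen D H = H
  ne_top : H ≠ ⊤
  le : A ≤ H

theorem mem_theta {A H : Subgroup G} {x : G} :
    x ∈ theta q A H ↔ x ∈ qPart q H ∧ ∀ a ∈ A, Commute a x := by
  rw [theta, Subgroup.mem_inf, Subgroup.mem_centralizer_iff]
  exact Iff.rfl

theorem gen_mono {H H' : Subgroup G} (h : H ≤ H') : gen D H ≤ gen D H' :=
  sSup_le fun _ hA => le_sSup ⟨hA.1, hA.2.trans h⟩

theorem mem_normalizer_Y_of_commute (h : PairSys p q D) {c u : G} (hu : Commute u c) :
    u ∈ Subgroup.normalizer ((Y D c : Subgroup G) : Set G) :=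
  h.normalizer_le_gen _ (Subgroup.le_normalizer
    (Subgroup.mem_centralizer_singleton_iff.2 hu.eq))

namespace Critical

variable (hc : Critical p q D)

include hc

theorem flat {A H : Subgroup G} (hF : FlatAt D A H) :
    Tight q A (qPart q H) ∧ H ≤ Subgroup.normalizer ((qPart q H : Subgroup G) : Set G) ∧
      qPart q H ⊔ A = H :=
  hc.sys.flat (hc.ih H hF.ne_top hF.gen_eq ⟨A, hF.mem, hF.le⟩) hF.gen_eq hF.mem hF.le

theorem theta_comm {A H : Subgroup G} (hF : FlatAt D A H) {z : G} (hz : z ∈ theta q A H) :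
    ∀ x ∈ H, Commute z x := by
  obtain ⟨hz1, hz2⟩ := mem_theta.1 hz
  obtain ⟨ht, -, hsup⟩ := hc.flat hF
  have : H ≤ Subgroup.centralizer ({z} : Set G) := by
    conv_lhs => rw [← hsup]
    exact sup_le
      (fun x hx => Subgroup.mem_centralizer_singleton_iff.2
        (hc.sys.cen A hF.mem _ ht z hz1 hz2 x hx).symm.eq)
      (fun a ha => Subgroup.mem_centralizer_singleton_iff.2 (hz2 a ha).eq)
  exact fun x hx => (Subgroup.mem_centralizer_singleton_iff.1 (this hx)).symm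

theorem flatAt_Y {A : Subgroup G} {c : G} (hg : Good q D A c) : FlatAt D A (Y D c) where
  mem := hg.mem
  gen_eq := gen_gen _
  ne_top := by
    intro e
    refine hg.ne_one (Subgroup.mem_bot.1 (hc.center_bot ▸ Subgroup.mem_center_iff.2 fun g => ?_))
    exact Subgroup.mem_centralizer_singleton_iff.1 (gen_le _ (show g ∈ Y D c by rw [e]; trivial))
  le := le_sSup ⟨hg.mem, fun a ha => Subgroup.mem_centralizer_singleton_iff.2 (hg.comm a ha).eq⟩

theorem le_Y {A H : Subgroup G} (hF : FlatAt D A H) {c : G} (hcm : c ∈ theta q A H) (h1 : c ≠ 1) :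
    H ≤ Y D c ∧ Good q D A c := by
  have hle : H ≤ Y D c := hF.gen_eq ▸ gen_mono fun x hx =>
    Subgroup.mem_centralizer_singleton_iff.2 (hc.theta_comm hF hcm x hx).symm.eq
  exact ⟨hle, hF.mem, h1, (mem_theta.1 hcm).2, qPart_mono hle (mem_theta.1 hcm).1⟩

theorem good_theta {A : Subgroup G} {c : G} (hg : Good q D A c) : c ∈ theta q A (Y D c) :=
  mem_theta.2 ⟨hg.mem_qPart, hg.comm⟩

theorem Y_eq {A : Subgroup G} {c d : G} (hg : Good q D A c) (hd : d ∈ theta q A (Y D c))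
    (h1 : d ≠ 1) : Y D d = Y D c := by
  obtain ⟨hle, hgd⟩ := hc.le_Y (hc.flatAt_Y hg) hd h1
  exact le_antisymm
    (hc.le_Y (hc.flatAt_Y hgd) (mem_theta.2 ⟨qPart_mono hle hg.mem_qPart, hg.comm⟩) hg.ne_one).1 hle

theorem special {A : Subgroup G} {c : G} (hg : Good q D A c) :
    ∀ A ∈ D, ∀ Q : Subgroup G, Tight q A Q → ∀ x ∈ Q, ∀ y ∈ Q, ∀ a ∈ A, Commute a ⁅x, y⁆ := by
  rcases hc.sys.special with h | h
  · exact h
  · exact absurd (h A hg.mem _ (hc.flat (hc.flatAt_Y hg)).1 c hg.mem_qPart hg.comm) hg.ne_one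

theorem commutator_mem_theta {A H : Subgroup G} (hF : FlatAt D A H) {c : G} (hg : Good q D A c)
    {x y : G} (hx : x ∈ qPart q H) (hy : y ∈ qPart q H) : ⁅x, y⁆ ∈ theta q A H :=
  mem_theta.2 ⟨by
    rw [commutatorElement_def]
    exact mul_mem (mul_mem (mul_mem hx hy) (inv_mem hx)) (inv_mem hy),
    hc.special hg A hF.mem _ (hc.flat hF).1 x hx y hy⟩

/-- Elements of the `q`-part fixing `A` centralise it. -/
theorem mem_theta_of_conj {A H : Subgroup G} (hF : FlatAt D A H) {x : G} (hx : x ∈ qPart q H)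
    (he : conjS x A = A) : x ∈ theta q A H := by
  obtain ⟨ht, -, -⟩ := hc.flat hF
  refine mem_theta.2 ⟨hx, fun a ha => ?_⟩
  have e : ⁅x, a⁆ ∈ qPart q H ⊓ A := by
    refine ⟨?_, ?_⟩
    · rw [commutatorElement_def]
      have := ((Subgroup.mem_normalizer_iff.1 (ht.2.1 ha)) x⁻¹).1 (inv_mem hx)
      simpa [mul_assoc] using mul_mem hx this
    · rw [commutatorElement_def]
      exact A.mul_mem ((Subgroup.mem_normalizer_iff.1 (conjS_eq_self_iff.1 he) a).1 ha) (A.inv_mem ha)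
  rw [hc.sys.inf_bot_of_le hF.mem ht.1, Subgroup.mem_bot, commutatorElement_eq_one_iff_commute] at e
  exact e.symm

/-- The members in an odd subgroup are conjugate by its `q`-part. -/
theorem exists_conj_mem {A H : Subgroup G} (hF : FlatAt D A H) {B : Subgroup G} (hB : B ∈ pts D H) :
    ∃ k ∈ qPart q H, B = conjS k A := by
  obtain ⟨ht, -, hsup⟩ := hc.flat hF
  exact hc.sys.exists_conj hF.mem hB.1 ht.1 ht.2.1 (hsup.symm ▸ hB.2)

/-- The common part. -/
theorem flatAt_common {A H K : Subgroup G} (hF : FlatAt D A H) (hAK : A ≤ K) :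
    FlatAt D A (gen D (H ⊓ K)) where
  mem := hF.mem
  gen_eq := gen_gen _
  ne_top e := hF.ne_top (top_le_iff.1 (e ▸ (gen_le _).trans inf_le_left))
  le := le_sSup ⟨hF.mem, le_inf hF.le hAK⟩

theorem pts_common_eq {H K : Subgroup G} : pts D (gen D (H ⊓ K)) = pts D H ∩ pts D K := by
  ext B
  exact ⟨fun hB => ⟨⟨hB.1, hB.2.trans ((gen_le _).trans inf_le_left)⟩,
    ⟨hB.1, hB.2.trans ((gen_le _).trans inf_le_right)⟩⟩,
    fun hB => ⟨hB.1.1, le_sSup ⟨hB.1.1, le_inf hB.1.2 hB.2.2⟩⟩⟩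

theorem theta_inf {A H : Subgroup G} {c : G} (hg : Good q D A c) (hF : FlatAt D A H)
    (hn : ¬ H ≤ Y D c) {d : G} (h1 : d ∈ theta q A (Y D c)) (h2 : d ∈ theta q A H) : d = 1 := by
  by_contra hd
  exact hn (hc.Y_eq hg h1 hd ▸ (hc.le_Y hF h2 hd).1)

/-- What an invariant subgroup sharing members with `Y c` provides. -/
theorem setup {A H : Subgroup G} {c : G} (hg : Good q D A c) (hF : FlatAt D A H)
    (hn : ¬ H ≤ Y D c) :
    ∃ (x : G) (L : Subgroup G),
      L ≤ theta q A H ∧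
      conjS x A ∈ pts D H ∧ conjS x A ∉ pts D (Y D c) ∧
      x ∈ qPart q H ∧
      (∀ l ∈ L, ∀ u ∈ theta q A (Y D c) ⊓ Subgroup.normalizer (H : Set G), Commute l u) ∧
      (∀ e ∈ qPart q (gen D (H ⊓ Y D c)), ⁅x, e⁆ ∈ L) ∧
      (∀ u ∈ theta q A (Y D c) ⊓ Subgroup.normalizer (H : Set G),
        ⁅x, u⁆ ∈ qPart q (gen D (H ⊓ Y D c)) ⊔ L) ∧
      L ≤ ⁅qPart q H, qPart q (gen D (H ⊓ Y D c))⁆ := by
  haveI := hc.sys.fact_q
  have hFY := hc.flatAt_Y hg
  set E := gen D (H ⊓ Y D c) with hE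
  have hFE : FlatAt D A E := hc.flatAt_common hF hFY.le
  set QE := qPart q E with hQE
  set QH := qPart q H with hQH
  set A1 := theta q A (Y D c) ⊓ Subgroup.normalizer (H : Set G) with hA1
  obtain ⟨htH, -, hsupH⟩ := hc.flat hF
  obtain ⟨htE, -, -⟩ := hc.flat hFE
  have hEH : QE ≤ QH := qPart_mono ((gen_le _).trans inf_le_left)
  have hEY : QE ≤ qPart q (Y D c) := qPart_mono ((gen_le _).trans inf_le_right)
  have hQEab : ∀ e ∈ QE, ∀ f ∈ QE, Commute e f := fun e he f hf =>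
    commutatorElement_eq_one_iff_commute.1 (hc.theta_inf hg hF hn
      (hc.commutator_mem_theta hFY hg (hEY he) (hEY hf))
      (hc.commutator_mem_theta hF hg (hEH he) (hEH hf)))
  have hThQ : ∀ z ∈ theta q A H, ∀ x ∈ QH, Commute z x := fun z hz x hx =>
    hc.theta_comm hF hz x (qPart_le H hx)
  have hA1E : ∀ u ∈ A1, ∀ e ∈ QE, Commute u e := fun u hu e he =>
    hc.theta_comm hFY hu.1 e (qPart_le _ (hEY he))
  have hA1A : ∀ u ∈ A1, ∀ a ∈ A, Commute a u := fun u hu => (mem_theta.1 hu.1).2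
  have hA1H : ∀ u ∈ A1, ∀ x ∈ QH, u * x * u⁻¹ ∈ QH := by
    intro u hu x hx
    have h1 : conjS u H = H := conjS_eq_self_iff.2 hu.2
    have h2 := conjS_qPart (q := q) u H
    rw [h1] at h2
    rw [hQH, ← h2]
    exact conj_mem_conjS hx
  -- the group of the fixed cosets
  set S := QE ⊔ theta q A H with hS
  have hSH : S ≤ QH := sup_le hEH fun x hx => (mem_theta.1 hx).1
  have hEn : theta q A H ≤ Subgroup.normalizer (QE : Set G) :=
    Subgroup.le_normalizer_iff.2 fun z hz e he => by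
      rw [(hThQ z hz e (hEH he)).eq, mul_inv_cancel_right]; exact he
  have hSdec : ∀ s ∈ S, ∃ e ∈ QE, ∃ z ∈ theta q A H, s = e * z := fun s hs =>
    mem_sup_of_le_normalizer hEn hs
  have hScomm : ∀ s ∈ S, ∀ e ∈ QE, Commute s e := by
    intro s hs e he
    obtain ⟨f, hf, z, hz, rfl⟩ := hSdec s hs
    exact Commute.mul_left (hQEab f hf e he) (hThQ z hz e (hEH he))
  have hnotS : ∀ x ∈ QH, (conjS x A ∈ pts D (Y D c) ∨ conjS x A ≤ S ⊔ A) → x ∈ S := by
    intro x hx hor
    have hBH : conjS x A ∈ pts D H := ⟨hc.sys.conj A hF.mem x, conjS_le hF.le (qPart_le H hx)⟩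
    obtain ⟨e, he, hek⟩ : ∃ e ∈ QE, conjS x A = conjS e A := by
      rcases hor with hY | hle
      · exact hc.exists_conj_mem hFE (pts_common_eq hc ▸ ⟨hBH, hY⟩)
      · have hAS : A ≤ Subgroup.normalizer (S : Set G) := by
          refine Subgroup.le_normalizer_iff.2 fun a ha s hs => ?_
          obtain ⟨e, he, z, hz, rfl⟩ := hSdec s hs
          have : a * (e * z) * a⁻¹ = (a * e * a⁻¹) * z := by
            rw [show a * (e * z) * a⁻¹ = a * e * a⁻¹ * (a * z * a⁻¹) by group,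
              ((mem_theta.1 hz).2 a ha).eq, mul_inv_cancel_right]
          rw [this]
          exact mul_mem (le_sup_left (b := theta q A H)
            (((Subgroup.mem_normalizer_iff.1 (htE.2.1 ha)) e).1 he)) (le_sup_right (a := QE) hz)
        obtain ⟨s, hs, he'⟩ := hc.sys.exists_conj hF.mem hBH.1 (htH.1.to_le hSH) hAS hle
        obtain ⟨e, he, z, hz, rfl⟩ := hSdec s hs
        refine ⟨e, he, ?_⟩
        rw [he', conjS_mul, conjS_eq_self_of_commute fun a ha => ((mem_theta.1 hz).2 a ha).symm]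
    have h1 : conjS (e⁻¹ * x) A = A := by
      rw [conjS_mul, hek, ← conjS_mul, inv_mul_cancel, conjS_one]
    have h2 := hc.mem_theta_of_conj hF (mul_mem (inv_mem (hEH he)) hx) h1
    simpa using mul_mem (le_sup_left (b := theta q A H) he) (le_sup_right (a := QE) h2)
  have hQS : ¬ QH ≤ S := by
    intro hle
    refine hn (hF.gen_eq ▸ sSup_le fun B hB => ?_)
    obtain ⟨k, hk, rfl⟩ := hc.exists_conj_mem hF hB
    obtain ⟨e, he, z, hz, rfl⟩ := hSdec k (hle hk)
    rw [conjS_mul, conjS_eq_self_of_commute fun a ha => ((mem_theta.1 hz).2 a ha).symm]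
    exact (conjS_le hFE.le (qPart_le _ he)).trans ((gen_le _).trans inf_le_right)
  have hA1Q : IsPGroup q A1 :=
    (hc.flat hFY).1.1.to_le fun u hu => (mem_theta.1 hu.1).1
  have hA1n : A1 ≤ Subgroup.normalizer (QH : Set G) := Subgroup.le_normalizer_iff.2 hA1H
  have hA1S : A1 ≤ Subgroup.normalizer (S : Set G) := by
    refine Subgroup.le_normalizer_iff.2 fun u hu s hs => ?_
    obtain ⟨e, he, z, hz, rfl⟩ := hSdec s hs
    have : u * (e * z) * u⁻¹ = e * (u * z * u⁻¹) := by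
      rw [← mul_assoc u e z, (hA1E u hu e he).eq]; group
    rw [this]
    refine mul_mem (le_sup_left (b := theta q A H) he) (le_sup_right (a := QE) (mem_theta.2
      ⟨hA1H u hu z (mem_theta.1 hz).1, fun a ha => ?_⟩))
    exact Commute.mul_right (Commute.mul_right (hA1A u hu a ha) ((mem_theta.1 hz).2 a ha))
      (hA1A u hu a ha).inv_right
  have hA1cap : ∀ u ∈ A1, u ∈ QH → u = 1 := fun u hu hu' =>
    hc.theta_inf hg hF hn hu.1 (mem_theta.2 ⟨hu', hA1A u hu⟩)
  set P0 := QH ⊔ A1 with hP0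
  set X := S ⊔ A1 with hX
  have hXP : X ≤ P0 := sup_le_sup_right hSH _
  have hXlt : ¬ P0 ≤ X := by
    intro hle
    refine hQS fun x hx => ?_
    obtain ⟨s, hs, u, hu, rfl⟩ := mem_sup_of_le_normalizer hA1S (hle (le_sup_left (b := A1) hx))
    have hu' : u ∈ QH := by simpa using mul_mem (inv_mem (hSH hs)) hx
    rw [hA1cap u hu hu', mul_one]; exact hs
  haveI : Group.IsNilpotent P0 := (htH.1.to_sup_of_normal_left' hA1Q hA1n).isNilpotent
  obtain ⟨x0, hx0, hx0n, hx0X⟩ : ∃ x ∈ QH, x ∈ Subgroup.normalizer (X : Set G) ∧ x ∉ S := by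
    have hlt : X.subgroupOf P0 < ⊤ := lt_top_iff_ne_top.2 fun e =>
      hXlt (Subgroup.subgroupOf_eq_top.1 e)
    obtain ⟨y, hy, hyX⟩ := SetLike.exists_of_lt (Group.normalizerCondition_of_isNilpotent _ hlt)
    obtain ⟨x, hx, u, hu, hxu⟩ := mem_sup_of_le_normalizer hA1n y.2
    have hyn : (y : G) ∈ Subgroup.normalizer (X : Set G) := by
      refine Subgroup.mem_normalizer_iff.2 fun z => ?_
      have key : ∀ z ∈ X, (y : G) * z * (y : G)⁻¹ ∈ X := fun z hz =>
        ((Subgroup.mem_normalizer_iff.1 hy) ⟨z, hXP hz⟩).1 hz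
      refine ⟨key z, fun hz => ?_⟩
      have hzP : z ∈ P0 := by
        have := mul_mem (mul_mem (inv_mem y.2) (hXP hz)) y.2
        simpa [mul_assoc] using this
      exact ((Subgroup.mem_normalizer_iff.1 hy) ⟨z, hzP⟩).2 hz
    refine ⟨x, hx, ?_, fun hxS => hyX ?_⟩
    · have : x = (y : G) * u⁻¹ := by rw [hxu, mul_inv_cancel_right]
      rw [this]
      exact mul_mem hyn (Subgroup.le_normalizer (le_sup_right (a := S) (inv_mem hu)))
    · rw [Subgroup.mem_subgroupOf, hxu]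
      exact mul_mem (le_sup_left (b := A1) hxS) (le_sup_right (a := S) hu)
  set W := QH ⊓ Subgroup.normalizer (X : Set G) with hW
  have hWcomm : ∀ w ∈ W, ∀ u ∈ A1, ⁅w, u⁆ ∈ S := by
    intro w hw u hu
    have h1 : ⁅w, u⁆ ∈ X := by
      rw [commutatorElement_def]
      exact mul_mem ((Subgroup.mem_normalizer_iff.1 hw.2 u).1 (le_sup_right (a := S) hu))
        (le_sup_right (a := S) (inv_mem hu))
    have h2 : ⁅w, u⁆ ∈ QH := by
      rw [commutatorElement_def]
      simpa [mul_assoc] using mul_mem hw.1 (hA1H u hu _ (inv_mem hw.1))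
    obtain ⟨s, hs, v, hv, e⟩ := mem_sup_of_le_normalizer hA1S h1
    have hv' : v ∈ QH := by rw [show v = s⁻¹ * ⁅w, u⁆ by rw [e]; group]; exact mul_mem (inv_mem (hSH hs)) h2
    rw [e, hA1cap v hv hv', mul_one]; exact hs
  set L := Subgroup.closure {y | ∃ w ∈ W, ∃ e ∈ QE, ⁅w, e⁆ = y} with hL
  have hLth : L ≤ theta q A H := (Subgroup.closure_le _).2 fun y ⟨w, hw, e, he, hy⟩ =>
    hy ▸ hc.commutator_mem_theta hF hg hw.1 (hEH he)
  have hLc : ∀ l ∈ L, ∀ u ∈ A1, Commute l u := by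
    intro l hl u hu
    have hle : L ≤ Subgroup.centralizer ({u} : Set G) := by
      refine (Subgroup.closure_le _).2 ?_
      rintro y ⟨w, hw, e, he, rfl⟩
      refine Subgroup.mem_centralizer_singleton_iff.2 ?_
      have hw' : u * w * u⁻¹ = w * ⁅w⁻¹, u⁆ := by rw [commutatorElement_def]; group
      have hs : ⁅w⁻¹, u⁆ ∈ S := hWcomm _ (inv_mem hw) u hu
      have h1 : u * ⁅w, e⁆ * u⁻¹ = ⁅u * w * u⁻¹, e⁆ := by
        have he' : u * e * u⁻¹ = e := by rw [(hA1E u hu e he).eq, mul_inv_cancel_right]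
        calc u * ⁅w, e⁆ * u⁻¹ = ⁅u * w * u⁻¹, u * e * u⁻¹⁆ := by
              simp only [commutatorElement_def]; group
          _ = ⁅u * w * u⁻¹, e⁆ := by rw [he']
      have h2 : ⁅w * ⁅w⁻¹, u⁆, e⁆ = ⁅w, e⁆ := by
        have h3 := (hScomm _ hs e he).eq
        calc ⁅w * ⁅w⁻¹, u⁆, e⁆ = w * (⁅w⁻¹, u⁆ * e) * ⁅w⁻¹, u⁆⁻¹ * w⁻¹ * e⁻¹ := by
              rw [commutatorElement_def (g₁ := w * ⁅w⁻¹, u⁆)]; group
          _ = ⁅w, e⁆ := by rw [h3, commutatorElement_def (g₁ := w) (g₂ := e)]; group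
      have h4 : u * ⁅w, e⁆ * u⁻¹ = ⁅w, e⁆ := by rw [h1, hw', h2]
      exact (mul_inv_eq_iff_eq_mul.1 h4).symm
    exact Subgroup.mem_centralizer_singleton_iff.1 (hle hl)
  have hAW : ∀ a ∈ A, ∀ w ∈ W, a * w * a⁻¹ ∈ W := by
    intro a ha w hw
    refine ⟨((Subgroup.mem_normalizer_iff.1 (htH.2.1 ha)) w).1 hw.1, ?_⟩
    have haX : a ∈ Subgroup.normalizer (X : Set G) := by
      have key : ∀ b ∈ A, ∀ z ∈ X, b * z * b⁻¹ ∈ X := by
        intro b hb z hz
        obtain ⟨s, hs, v, hv, rfl⟩ := mem_sup_of_le_normalizer hA1S hz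
        obtain ⟨e, he, t, ht, rfl⟩ := hSdec s hs
        have : b * (e * t * v) * b⁻¹ = b * e * b⁻¹ * t * v := by
          rw [show b * (e * t * v) * b⁻¹ = b * e * b⁻¹ * (b * (t * v) * b⁻¹) by group,
            (Commute.mul_right ((mem_theta.1 ht).2 b hb) (hA1A v hv b hb)).eq, mul_inv_cancel_right,
            mul_assoc (b * e * b⁻¹)]
        rw [this]
        exact mul_mem (le_sup_left (b := A1) (mul_mem (le_sup_left (b := theta q A H)
          (((Subgroup.mem_normalizer_iff.1 (htE.2.1 hb)) e).1 he)) (le_sup_right (a := QE) ht)))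
          (le_sup_right (a := S) hv)
      refine Subgroup.mem_normalizer_iff.2 fun z => ⟨key a ha z, fun hz => ?_⟩
      simpa [mul_assoc] using key a⁻¹ (inv_mem ha) _ hz
    show a * w * a⁻¹ ∈ Subgroup.normalizer (X : Set G)
    exact mul_mem (mul_mem haX (Subgroup.mem_inf.1 hw).2) (inv_mem haX)
  -- the element `x`
  obtain ⟨a, ha, hax⟩ : ∃ a ∈ A, ⁅a, x0⁆ ∉ S := by
    by_contra hcon
    push Not at hcon
    refine hx0X (hnotS x0 hx0 (Or.inr fun y hy => ?_))
    rw [mem_conjS] at hy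
    have h1 := inv_mem (hcon _ hy)
    rw [commutatorElement_inv] at h1
    have e : y = ⁅x0, x0⁻¹ * y * x0⁆ * (x0⁻¹ * y * x0) := by rw [commutatorElement_def]; group
    rw [e]
    exact mul_mem (le_sup_left (b := A) h1) (le_sup_right (a := S) hy)
  have hx0W : x0 ∈ W := ⟨hx0, hx0n⟩
  have hxW : ⁅a, x0⁆ ∈ W := by
    rw [commutatorElement_def]; exact mul_mem (hAW a ha x0 hx0W) (inv_mem hx0W)
  refine ⟨⁅a, x0⁆, L, hLth, ⟨hc.sys.conj A hF.mem _, conjS_le hF.le (qPart_le H hxW.1)⟩,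
    fun hY => hax (hnotS _ hxW.1 (Or.inl hY)), hxW.1, hLc,
    fun e he => Subgroup.subset_closure ⟨_, hxW, e, he, rfl⟩, fun u hu => ?_,
    (Subgroup.closure_le _).2 fun y ⟨w, hw, e, he, hy⟩ =>
      hy ▸ Subgroup.commutator_mem_commutator hw.1 he⟩
  · set x := a * x0 * a⁻¹ with hxdef
    have hxe : ⁅a, x0⁆ = x * x0⁻¹ := by rw [hxdef, commutatorElement_def]
    obtain ⟨e0, he0, z, hz, hs⟩ := hSdec _ (hWcomm x0 hx0W u hu)
    have h1 : ⁅x, u⁆ = a * e0 * a⁻¹ * z := by
      have hu' : a * u * a⁻¹ = u := by rw [(hA1A u hu a ha).eq, mul_inv_cancel_right]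
      calc ⁅x, u⁆ = ⁅a * x0 * a⁻¹, a * u * a⁻¹⁆ := by rw [hu', hxdef]
        _ = a * ⁅x0, u⁆ * a⁻¹ := by simp only [commutatorElement_def]; group
        _ = a * e0 * a⁻¹ * (a * z * a⁻¹) := by rw [hs]; group
        _ = a * e0 * a⁻¹ * z := by rw [((mem_theta.1 hz).2 a ha).eq, mul_inv_cancel_right]
    have hzQ := hThQ z hz
    have hxQ : x ∈ QH := ((Subgroup.mem_normalizer_iff.1 (htH.2.1 ha)) x0).1 hx0
    have h2 : ⁅x * x0⁻¹, u⁆ = (x * x0⁻¹) * e0⁻¹ * (x * x0⁻¹)⁻¹ * (a * e0 * a⁻¹) := by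
      calc ⁅x * x0⁻¹, u⁆ = x * x0⁻¹ * ⁅x0, u⁆⁻¹ * (x * x0⁻¹)⁻¹ * ⁅x, u⁆ := by
            simp only [commutatorElement_def]; group
        _ = x * x0⁻¹ * (z⁻¹ * e0⁻¹) * (x * x0⁻¹)⁻¹ * (a * e0 * a⁻¹ * z) := by
            rw [hs, h1, mul_inv_rev]
        _ = z⁻¹ * (x * x0⁻¹ * e0⁻¹ * (x * x0⁻¹)⁻¹) * (a * e0 * a⁻¹) * z := by
            have := ((hzQ _ (mul_mem hxQ (inv_mem hx0))).inv_left).eq
            calc _ = (x * x0⁻¹ * z⁻¹) * e0⁻¹ * (x * x0⁻¹)⁻¹ * (a * e0 * a⁻¹ * z) := by group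
              _ = _ := by rw [← this]; group
        _ = _ := by
            have hm : (x * x0⁻¹ * e0⁻¹ * (x * x0⁻¹)⁻¹) * (a * e0 * a⁻¹) ∈ QH :=
              mul_mem (mul_mem (mul_mem (mul_mem hxQ (inv_mem hx0)) (inv_mem (hEH he0)))
                (inv_mem (mul_mem hxQ (inv_mem hx0))))
                (((Subgroup.mem_normalizer_iff.1 (htH.2.1 ha)) e0).1 (hEH he0))
            rw [mul_assoc z⁻¹, mul_assoc z⁻¹, ← (hzQ _ hm).eq, inv_mul_cancel_left]
    rw [hxe, h2]
    refine mul_mem ?_ (le_sup_left (b := L) (((Subgroup.mem_normalizer_iff.1 (htE.2.1 ha)) e0).1 he0))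
    have h3 : x * x0⁻¹ * e0⁻¹ * (x * x0⁻¹)⁻¹ = ⁅x * x0⁻¹, e0⁻¹⁆ * e0⁻¹ := by
      rw [commutatorElement_def]; group
    rw [h3]
    exact mul_mem (le_sup_right (a := QE)
      (Subgroup.subset_closure ⟨_, hxe ▸ hxW, _, inv_mem he0, rfl⟩)) (le_sup_left (b := L) (inv_mem he0))

theorem no_bad_aux {A : Subgroup G} : ∀ (n : ℕ) (c : G) (H : Subgroup G),
    Good q D A c → FlatAt D A H → c ∈ Subgroup.normalizer (H : Set G) →
    (pts D H ∩ pts D (Y D c)).ncard + n = Nat.card (Subgroup G) →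
    (∃ B ∈ pts D H ∩ pts D (Y D c), B ≠ A) → H ≤ Y D c := by
  intro n
  induction n using Nat.strong_induction_on with
  | _ n ih =>
  intro c H hg hF hcH hcnt hex
  by_contra hn
  haveI := hc.sys.fact_q
  have hFY := hc.flatAt_Y hg
  set T := pts D H ∩ pts D (Y D c) with hT
  have hAT : A ∈ T := ⟨⟨hF.mem, hF.le⟩, hFY.mem, hFY.le⟩
  have hncard : ∀ s : Set (Subgroup G), s.ncard ≤ Nat.card (Subgroup G) := fun s => by
    rw [← Set.ncard_univ]; exact Set.ncard_le_ncard (Set.subset_univ s) Set.finite_univ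
  -- an invariant subgroup with a larger common part lies in `Y c`
  have bigger : ∀ (c' : G) (H' : Subgroup G), Good q D A c' → FlatAt D A H' →
      c' ∈ Subgroup.normalizer (H' : Set G) → T ⊂ pts D H' ∩ pts D (Y D c') → H' ≤ Y D c' := by
    intro c' H' hg' hF' hn' hss
    have hlt := Set.ncard_lt_ncard hss (Set.toFinite _)
    have hle := hncard (pts D H' ∩ pts D (Y D c'))
    refine ih (Nat.card (Subgroup G) - (pts D H' ∩ pts D (Y D c')).ncard) (by omega) c' H' hg' hF'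
      hn' (by omega) ?_
    obtain ⟨B, hB, hBA⟩ := hex
    exact ⟨B, hss.1 hB, hBA⟩
  set E := gen D (H ⊓ Y D c) with hE
  have hptsE : pts D E = T := pts_common_eq hc
  have hFE : FlatAt D A E := hc.flatAt_common hF hFY.le
  set QE := qPart q E with hQE
  obtain ⟨htE, -, hsupE⟩ := hc.flat hFE
  have hQE0 : QE ≠ ⊥ := by
    intro e
    obtain ⟨B, hB, hBA⟩ := hex
    have hBE : B ∈ pts D E := hptsE ▸ hB
    rw [hQE] at e
    rw [e, bot_sup_eq] at hsupE
    exact hBA (hc.sys.eq_of_le hBE.1 hF.mem (hBE.2.trans hsupE.ge))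
  have hEY : QE ≤ qPart q (Y D c) := qPart_mono ((gen_le _).trans inf_le_right)
  have hEH : QE ≤ qPart q H := qPart_mono ((gen_le _).trans inf_le_left)
  have hQEab : ∀ e ∈ QE, ∀ f ∈ QE, Commute e f := fun e he f hf =>
    commutatorElement_eq_one_iff_commute.1 (hc.theta_inf hg hF hn
      (hc.commutator_mem_theta hFY hg (hEY he) (hEY hf))
      (hc.commutator_mem_theta hF hg (hEH he) (hEH hf)))
  have hcQE : ∀ e ∈ QE, Commute c e := fun e he =>
    hc.theta_comm hFY (hc.good_theta hg) e (qPart_le _ (hEY he))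
  obtain ⟨x, L, hLth, hBH, hBY, hxQ, hLc, hxE, hxU, hL⟩ := hc.setup hg hF hn
  clear hL
  rcases Subgroup.bot_or_exists_ne_one L with hL0 | ⟨l, hl, hl1⟩
  · -- `x` centralises `QE`
    have hxc : ∀ e ∈ QE, Commute x e := fun e he =>
      commutatorElement_eq_one_iff_commute.1 (Subgroup.mem_bot.1 (hL0 ▸ hxE e he))
    set W := gen D (Subgroup.normalizer (QE : Set G)) with hWdef
    have hAQE : A ≤ Subgroup.normalizer (QE : Set G) := htE.2.1
    have hxn : x ∈ Subgroup.normalizer (QE : Set G) :=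
      conjS_eq_self_iff.1 (conjS_eq_self_of_commute hxc)
    have hFW : FlatAt D A W := by
      refine ⟨hF.mem, gen_gen _, fun e => hQE0 ?_, le_sSup ⟨hF.mem, hAQE⟩⟩
      have h1 : Subgroup.normalizer (QE : Set G) = ⊤ :=
        top_le_iff.1 (e ▸ gen_le (D := D) (Subgroup.normalizer (QE : Set G)))
      exact hc.no_q QE (Subgroup.normalizer_eq_top_iff.1 h1) htE.1
    have hBW : conjS x A ∈ pts D W :=
      ⟨hBH.1, le_sSup ⟨hBH.1, conjS_le hAQE hxn⟩⟩
    have hWn : ¬ W ≤ Y D c := fun h => hBY ⟨hBH.1, hBW.2.trans h⟩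
    have hTW : T ⊆ pts D W ∩ pts D (Y D c) := by
      intro B hB
      have hBE : B ∈ pts D E := hptsE ▸ hB
      refine ⟨⟨hBE.1, le_sSup ⟨hBE.1, hBE.2.trans ?_⟩⟩, hB.2⟩
      rw [← hsupE]
      exact sup_le Subgroup.le_normalizer hAQE
    have hcW : c ∈ Subgroup.normalizer (W : Set G) :=
      hc.sys.normalizer_le_gen _ (Subgroup.le_normalizer
        (conjS_eq_self_iff.1 (conjS_eq_self_of_commute hcQE)))
    have heq : T = pts D W ∩ pts D (Y D c) := by
      by_contra hne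
      exact hWn (bigger c W hg hFW hcW (hTW.ssubset_of_ne hne))
    have hEW : gen D (W ⊓ Y D c) = E := by
      rw [hE, ← gen_gen (H ⊓ Y D c), ← gen_gen (W ⊓ Y D c)]
      show sSup (pts D (gen D (W ⊓ Y D c))) = sSup (pts D (gen D (H ⊓ Y D c)))
      rw [pts_common_eq hc, pts_common_eq hc, ← heq]
    have hQEW : QE ≤ qPart q W := qPart_mono (hEW ▸ (gen_le _).trans inf_le_left)
    obtain ⟨y, L', hL'th, hB'W, hB'Y, hyQ, -, hyE, hyU, hL'c⟩ := hc.setup hg hFW hWn
    rw [hEW] at hyE hyU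
    have hWQE : ∀ w ∈ qPart q W, ∀ e ∈ QE, ⁅w, e⁆ = 1 := by
      intro w hw e he
      have h1 := hc.commutator_mem_theta hFW hg hw (hQEW he)
      have h2 : ⁅w, e⁆ ∈ QE := by
        rw [commutatorElement_def]
        exact mul_mem (((Subgroup.mem_normalizer_iff.1 ((gen_le _) (qPart_le _ hw))) e).1 he)
          (inv_mem he)
      exact hc.theta_inf hg hFW hWn (mem_theta.2 ⟨hEY h2, (mem_theta.1 h1).2⟩) h1
    set Th := theta q A (Y D c) with hTh
    have hThW : ∀ u ∈ Th, u ∈ Subgroup.normalizer (W : Set G) := fun u hu =>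
      hc.sys.normalizer_le_gen _ (Subgroup.le_normalizer (conjS_eq_self_iff.1
        (conjS_eq_self_of_commute fun e he => hc.theta_comm hFY hu e (qPart_le _ (hEY he)))))
    set P := QE ⊔ Th with hP
    have hThn : Th ≤ Subgroup.normalizer (QE : Set G) := fun u hu => conjS_eq_self_iff.1
      (conjS_eq_self_of_commute fun e he => hc.theta_comm hFY hu e (qPart_le _ (hEY he)))
    obtain ⟨htY, -, -⟩ := hc.flat hFY
    have hPq : IsPGroup q P :=
      htY.1.to_le (sup_le hEY fun u hu => (mem_theta.1 hu).1)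
    have hnormP : ∀ g : G, (∀ e ∈ QE, g * e * g⁻¹ ∈ P) → (∀ u ∈ Th, g * u * g⁻¹ ∈ P) →
        g ∈ Subgroup.normalizer (P : Set G) := by
      intro g he hu
      have h1 : conjS g P ≤ P := by
        rw [hP, conjS_sup]
        exact sup_le (by rintro _ ⟨e, h, rfl⟩; exact he e h) (by rintro _ ⟨e, h, rfl⟩; exact hu e h)
      exact conjS_eq_self_iff.1 (Subgroup.eq_of_le_of_card_ge h1 (card_conjS g P).ge)
    have hyP : y ∈ Subgroup.normalizer (P : Set G) := by
      refine hnormP y (fun e he => ?_) fun u hu => ?_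
      · rw [show y * e * y⁻¹ = ⁅y, e⁆ * e by rw [commutatorElement_def]; group, hWQE y hyQ e he,
          one_mul]
        exact le_sup_left (b := Th) he
      · have hL'0 : L' = ⊥ := le_bot_iff.1 (hL'c.trans (by
          rw [Subgroup.commutator_le]
          intro w hw e he
          rw [hEW] at he
          exact Subgroup.mem_bot.2 (hWQE w hw e he)))
        have h1 := hyU u ⟨hu, hThW u hu⟩
        rw [hL'0, sup_bot_eq] at h1
        rw [show y * u * y⁻¹ = ⁅y, u⁆ * u by rw [commutatorElement_def]; group]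
        exact mul_mem (le_sup_left (b := Th) h1) (le_sup_right (a := QE) hu)
    have hQYP : qPart q (Y D c) ≤ Subgroup.normalizer (P : Set G) := by
      intro z hz
      refine hnormP z (fun e he => ?_) fun u hu => ?_
      · rw [show z * e * z⁻¹ = ⁅z, e⁆ * e by rw [commutatorElement_def]; group]
        exact mul_mem (le_sup_right (a := QE) (hc.commutator_mem_theta hFY hg hz (hEY he)))
          (le_sup_left (b := Th) he)
      · rw [← (hc.theta_comm hFY hu z (qPart_le _ hz)).eq, mul_inv_cancel_right]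
        exact le_sup_right (a := QE) hu
    have hAP : A ≤ Subgroup.normalizer (P : Set G) := fun a ha => by
      refine hnormP a (fun e he => le_sup_left (b := Th)
        (((Subgroup.mem_normalizer_iff.1 (hAQE ha)) e).1 he)) fun u hu => ?_
      rw [((mem_theta.1 hu).2 a ha).eq, mul_inv_cancel_right]
      exact le_sup_right (a := QE) hu
    have hP0 : P ≠ ⊥ := fun e => hQE0 (le_bot_iff.1 (e ▸ le_sup_left))
    set V := gen D (Subgroup.normalizer (P : Set G)) with hV
    have hFV : FlatAt D A V := by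
      refine ⟨hF.mem, gen_gen _, fun e => hP0 ?_, le_sSup ⟨hF.mem, hAP⟩⟩
      have h1 : Subgroup.normalizer (P : Set G) = ⊤ :=
        top_le_iff.1 (e ▸ gen_le (D := D) (Subgroup.normalizer (P : Set G)))
      exact hc.no_q P (Subgroup.normalizer_eq_top_iff.1 h1) hPq
    have hYV : Y D c ≤ V := by
      rw [← hFY.gen_eq]
      refine sSup_le fun B hB => ?_
      obtain ⟨k, hk, rfl⟩ := hc.exists_conj_mem hFY hB
      exact le_sSup ⟨hB.1, conjS_le hAP (hQYP hk)⟩
    have hVY := (hc.le_Y hFV (c := c)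
      (mem_theta.2 ⟨qPart_mono hYV hg.mem_qPart, hg.comm⟩) hg.ne_one).1
    have hyV : conjS y A ≤ V := le_sSup ⟨hB'W.1, conjS_le hAP hyP⟩
    exact hB'Y ⟨hB'W.1, hyV.trans hVY⟩
  · -- `l` gives a maximal subgroup containing `H`
    obtain ⟨hHH', hgl⟩ := hc.le_Y hF (hLth hl) hl1
    set H' := Y D l with hH'
    have hFH' := hc.flatAt_Y hgl
    have hlc : Commute l c := hLc l hl c ⟨hc.good_theta hg, hcH⟩
    have hH'n : ¬ H' ≤ Y D c := fun h => hn (hHH'.trans h)
    have hcH' : c ∈ Subgroup.normalizer (H' : Set G) :=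
      mem_normalizer_Y_of_commute hc.sys hlc.symm
    have hlY : l ∈ Subgroup.normalizer ((Y D c : Subgroup G) : Set G) :=
      mem_normalizer_Y_of_commute hc.sys hlc
    have hTH' : T ⊆ pts D H' ∩ pts D (Y D c) := fun B hB => ⟨⟨hB.1.1, hB.1.2.trans hHH'⟩, hB.2⟩
    have heq : T = pts D H' ∩ pts D (Y D c) := by
      by_contra hne
      exact hH'n (bigger c H' hg hFH' hcH' (hTH'.ssubset_of_ne hne))
    have hYn : ¬ Y D c ≤ H' := by
      intro h
      exact hH'n (hc.Y_eq hgl (mem_theta.2 ⟨qPart_mono h hg.mem_qPart, hg.comm⟩) hg.ne_one).ge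
    have hEE : gen D (H' ⊓ Y D c) = E := by
      rw [hE, ← gen_gen (H ⊓ Y D c), ← gen_gen (H' ⊓ Y D c)]
      show sSup (pts D (gen D (H' ⊓ Y D c))) = sSup (pts D (gen D (H ⊓ Y D c)))
      rw [pts_common_eq hc, pts_common_eq hc, ← heq]
    have hEE' : gen D (Y D c ⊓ H') = E := by rw [inf_comm, hEE]
    obtain ⟨x, L₁, hL₁th, hxH, hxY, hxQ, hL₁c, hxE, hxU, -⟩ := hc.setup hg hFH' hH'n
    obtain ⟨y, L₂, hL₂th, hyY, hyH, hyQ, hL₂c, hyE, hyU, -⟩ := hc.setup hgl hFY hYn
    rw [hEE] at hxE hxU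
    rw [← hH', hEE'] at hyE hyU
    set A1 := theta q A (Y D c) ⊓ Subgroup.normalizer (H' : Set G) with hA1
    set A2 := theta q A H' ⊓ Subgroup.normalizer ((Y D c : Subgroup G) : Set G) with hA2
    have hQH : QE ≤ qPart q H' := qPart_mono (hEE ▸ (gen_le _).trans inf_le_left)
    have hL₁A : L₁ ≤ A2 := fun m hm => ⟨hL₁th hm, mem_normalizer_Y_of_commute hc.sys
      (hL₁c m hm c ⟨hc.good_theta hg, hcH'⟩)⟩
    have hL₂A : L₂ ≤ A1 := fun m hm => ⟨hL₂th hm, mem_normalizer_Y_of_commute hc.sys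
      (hL₂c m hm l ⟨hc.good_theta hgl, hlY⟩)⟩
    have hA1E : ∀ u ∈ A1, ∀ e ∈ QE, Commute u e := fun u hu e he =>
      hc.theta_comm hFY hu.1 e (qPart_le _ (hEY he))
    have hA2E : ∀ u ∈ A2, ∀ e ∈ QE, Commute u e := fun u hu e he =>
      hc.theta_comm hFH' hu.1 e (qPart_le _ (hQH he))
    have hA12 : ∀ u ∈ A1, ∀ v ∈ A2, Commute v u := by
      intro u hu v hv
      have hconj : ∀ (g : G) (K : Subgroup G), g ∈ Subgroup.normalizer (K : Set G) →
          ∀ z ∈ qPart q K, g * z * g⁻¹ ∈ qPart q K := by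
        intro g K hgK z hz
        have h2 := conjS_qPart (q := q) g K
        rw [conjS_eq_self_iff.2 hgK] at h2
        rw [← h2]
        exact conj_mem_conjS hz
      have hfix : ∀ a ∈ A, Commute a ⁅v, u⁆ := fun a ha => by
        have h1 := (mem_theta.1 hu.1).2 a ha
        have h2 := (mem_theta.1 hv.1).2 a ha
        rw [commutatorElement_def]
        exact ((h2.mul_right h1).mul_right h2.inv_right).mul_right h1.inv_right
      refine commutatorElement_eq_one_iff_commute.1 (hc.theta_inf hg hFH' hH'n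
        (mem_theta.2 ⟨?_, hfix⟩) (mem_theta.2 ⟨?_, hfix⟩))
      · rw [commutatorElement_def]
        exact mul_mem (hconj v _ hv.2 u (mem_theta.1 hu.1).1) (inv_mem (mem_theta.1 hu.1).1)
      · rw [commutatorElement_def]
        have := hconj u _ hu.2 v⁻¹ (inv_mem (mem_theta.1 hv.1).1)
        simpa [mul_assoc] using mul_mem (mem_theta.1 hv.1).1 this
    set P := QE ⊔ A1 ⊔ A2 with hP
    have hEA : ∀ e ∈ QE ⊔ A1, ∀ v ∈ A2, Commute v e := by
      intro e he v hv
      obtain ⟨f, hf, u, hu, rfl⟩ := mem_sup_of_le_normalizer (K := QE) (A := A1) (fun u hu =>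
        conjS_eq_self_iff.1 (conjS_eq_self_of_commute fun e he => hA1E u hu e he)) he
      exact (hA2E v hv f hf).mul_right (hA12 u hu v hv)
    obtain ⟨htY, -, -⟩ := hc.flat hFY
    obtain ⟨htH, -, -⟩ := hc.flat hFH'
    have hPq : IsPGroup q P :=
      (htY.1.to_le (sup_le hEY (show A1 ≤ qPart q (Y D c) from fun u hu => (mem_theta.1 hu.1).1))).to_sup_of_normal_left'
        (htH.1.to_le (show A2 ≤ qPart q H' from fun u hu => (mem_theta.1 hu.1).1))
        fun v hv => conjS_eq_self_iff.1 (conjS_eq_self_of_commute fun e he => hEA e he v hv)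
    have hnormP : ∀ g : G, (∀ e ∈ QE, g * e * g⁻¹ ∈ P) → (∀ u ∈ A1, g * u * g⁻¹ ∈ P) →
        (∀ u ∈ A2, g * u * g⁻¹ ∈ P) → g ∈ Subgroup.normalizer (P : Set G) := by
      intro g he hu hv
      have h1 : conjS g P ≤ P := by
        rw [hP, conjS_sup, conjS_sup]
        exact sup_le (sup_le (by rintro _ ⟨e, h, rfl⟩; exact he e h)
          (by rintro _ ⟨e, h, rfl⟩; exact hu e h)) (by rintro _ ⟨e, h, rfl⟩; exact hv e h)
      exact conjS_eq_self_iff.1 (Subgroup.eq_of_le_of_card_ge h1 (card_conjS g P).ge)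
    have iE : QE ≤ P := le_sup_left.trans le_sup_left
    have i1 : A1 ≤ P := le_sup_right.trans le_sup_left
    have i2 : A2 ≤ P := le_sup_right
    have hmul : ∀ g z : G, g * z * g⁻¹ = ⁅g, z⁆ * z := fun g z => by
      rw [commutatorElement_def]; group
    have hxP : x ∈ Subgroup.normalizer (P : Set G) := by
      refine hnormP x (fun e he => ?_) (fun u hu => ?_) fun v hv => ?_
      · rw [hmul]; exact mul_mem (i2 (hL₁A (hxE e he))) (iE he)
      · rw [hmul]; exact mul_mem (sup_le iE (hL₁A.trans i2) (hxU u hu)) (i1 hu)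
      · rw [← (hc.theta_comm hFH' hv.1 x (qPart_le _ hxQ)).eq, mul_inv_cancel_right]; exact i2 hv
    have hyP : y ∈ Subgroup.normalizer (P : Set G) := by
      refine hnormP y (fun e he => ?_) (fun u hu => ?_) fun v hv => ?_
      · rw [hmul]; exact mul_mem (i1 (hL₂A (hyE e he))) (iE he)
      · rw [← (hc.theta_comm hFY hu.1 y (qPart_le _ hyQ)).eq, mul_inv_cancel_right]; exact i1 hu
      · rw [hmul]; exact mul_mem (sup_le iE (hL₂A.trans i1) (hyU v hv)) (i2 hv)
    have hAP : A ≤ Subgroup.normalizer (P : Set G) := fun a ha => by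
      refine hnormP a (fun e he => iE (((Subgroup.mem_normalizer_iff.1 (htE.2.1 ha)) e).1 he))
        (fun u hu => ?_) fun u hu => ?_
      · rw [((mem_theta.1 hu.1).2 a ha).eq, mul_inv_cancel_right]; exact i1 hu
      · rw [((mem_theta.1 hu.1).2 a ha).eq, mul_inv_cancel_right]; exact i2 hu
    set V := gen D (Subgroup.normalizer (P : Set G)) with hV
    have hFV : FlatAt D A V := by
      refine ⟨hF.mem, gen_gen _, fun e => hQE0 (le_bot_iff.1 ?_), le_sSup ⟨hF.mem, hAP⟩⟩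
      have h1 : Subgroup.normalizer (P : Set G) = ⊤ :=
        top_le_iff.1 (e ▸ gen_le (D := D) (Subgroup.normalizer (P : Set G)))
      exact iE.trans (hc.no_q P (Subgroup.normalizer_eq_top_iff.1 h1) hPq).le
    have hcP : c ∈ Subgroup.normalizer (V : Set G) :=
      hc.sys.normalizer_le_gen _ (Subgroup.le_normalizer
        (Subgroup.le_normalizer (i1 ⟨hc.good_theta hg, hcH'⟩)))
    have hxV : conjS x A ∈ pts D V := ⟨hxH.1, le_sSup ⟨hxH.1, conjS_le hAP hxP⟩⟩
    have hyV : conjS y A ∈ pts D V := ⟨hyY.1, le_sSup ⟨hyY.1, conjS_le hAP hyP⟩⟩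
    have hVn : ¬ V ≤ Y D c := fun h => hxY ⟨hxH.1, hxV.2.trans h⟩
    refine hVn (bigger c V hg hFV hcP ⟨fun B hB => ⟨⟨hB.1.1, le_sSup ⟨hB.1.1, ?_⟩⟩, hB.2⟩, fun h => ?_⟩)
    · obtain ⟨k, hk, rfl⟩ := hc.exists_conj_mem hFE (hptsE ▸ hB)
      exact conjS_le hAP (Subgroup.le_normalizer (iE hk))
    · exact hyH (heq ▸ h ⟨hyV, hyY⟩).1

/-- An invariant subgroup sharing two members with `Y c` lies in it. -/
theorem no_bad {A H : Subgroup G} {c : G} (hg : Good q D A c) (hF : FlatAt D A H)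
    (hcH : c ∈ Subgroup.normalizer (H : Set G)) {B : Subgroup G} (hB : B ∈ pts D H)
    (hBY : B ∈ pts D (Y D c)) (hne : B ≠ A) : H ≤ Y D c :=
  hc.no_bad_aux (Nat.card (Subgroup G) - (pts D H ∩ pts D (Y D c)).ncard) c H hg hF hcH
    (by
      have : (pts D H ∩ pts D (Y D c)).ncard ≤ Nat.card (Subgroup G) := by
        rw [← Set.ncard_univ]; exact Set.ncard_le_ncard (Set.subset_univ _) Set.finite_univ
      omega)
    ⟨B, ⟨hB, hBY⟩, hne⟩

end Critical

end Cfsg.Agent.OddPairs
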