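import Cfsg.Agent.Lib.OddPairs.Basic
import Cfsg.Agent.Lib.BrauerPairs.ClassProduct
import Cfsg.Agent.Lib.Char.Integral

/-!
# A character argument for fixed points
-/

set_option autoImplicit false
set_option linter.unusedSectionVars false
set_option linter.style.haveILetI false

namespace Cfsg.Agent.OddPairs

open Cfsg.Agent.Char
open scoped commutatorElement ComplexConjugate

universe u

variable {H : Type u} [Group H] [Finite H]

/-- Character values on the powers of `a` in a geometric progression are zero or maximal. -/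
theorem char_zero_or_max {p : ℕ} (hp3 : 3 ≤ p) {a : H} (hap : a ^ p = 1)
    (χ : Cfsg.IrrCharacter H)
    (hmul : ∀ j : ℕ, j + 1 < p →
      (χ : H → ℂ) 1 * (χ : H → ℂ) (a ^ (j + 1)) = (χ : H → ℂ) a * (χ : H → ℂ) (a ^ j)) :
    (χ : H → ℂ) a = 0 ∨ ‖(χ : H → ℂ) a‖ = ‖(χ : H → ℂ) 1‖ := by
  classical
  set d := (χ : H → ℂ) 1 with hd
  have hd0 : d ≠ 0 := IsIrrCharacter.one_ne_zero χ.2
  have hpow : ∀ j : ℕ, j < p → (χ : H → ℂ) (a ^ j) = d * ((χ : H → ℂ) a / d) ^ j := by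
    intro j
    induction j with
    | zero => intro _; simp [hd]
    | succ j ih =>
      intro hj
      have h1 := hmul j hj
      rw [ih (by omega)] at h1
      refine mul_left_cancel₀ hd0 (h1.trans ?_)
      rw [pow_succ]; field_simp
  by_cases h0 : (χ : H → ℂ) a = 0
  · exact Or.inl h0
  · right
    have hinv : a ^ (p - 1) = a⁻¹ := by
      rw [eq_inv_iff_mul_eq_one, ← pow_succ, Nat.sub_add_cancel (by omega), hap]
    have h1 := hpow (p - 1) (by omega)
    rw [hinv, IsCharacter.inv (IsIrrCharacter.isCharacter χ.2)] at h1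
    have h2 := congrArg norm h1
    rw [Complex.norm_conj, norm_mul, norm_pow, norm_div] at h2
    set r := ‖(χ : H → ℂ) a‖ / ‖d‖ with hr
    have hdn : ‖d‖ ≠ 0 := norm_ne_zero_iff.2 hd0
    have hr0 : 0 < r := div_pos (norm_pos_iff.2 h0) (norm_pos_iff.2 hd0)
    have h3 : r = r ^ (p - 1) := by
      rw [hr] at *
      field_simp at h2 ⊢
      linarith
    have h4 : r ^ (p - 2) = 1 := by
      rw [show p - 1 = (p - 2) + 1 by omega, pow_succ] at h3
      exact mul_right_cancel₀ hr0.ne' (by rw [one_mul]; exact h3.symm)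
    have h5 : r = 1 := (pow_eq_one_iff_of_nonneg hr0.le (by omega)).1 h4
    rwa [hr, div_eq_one_iff_eq hdn] at h5

/-- If the class of `a` absorbs every commutator with `A`, fixed points in `Q` are trivial. -/
theorem fixed_trivial_aux {p : ℕ} (hp : p.Prime) (hp2 : p ≠ 2) {A Q : Subgroup H}
    (hA : Nat.card A = p) (htop : ∀ x : H, ∃ k ∈ Q, ∃ b ∈ A, x = k * b) (hQA : Q ≤ ⁅Q, A⁆)
    (hconj : ∀ k ∈ Q, ∀ b ∈ A, ∀ c ∈ A, c ≠ 1 → IsConj c (⁅k, b⁆ * c))
    (hfix : ∀ k ∈ Q, ∀ b ∈ A, (∀ a ∈ A, Commute a ⁅k, b⁆) → ⁅k, b⁆ = 1) :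
    ∀ z ∈ Q, (∀ a ∈ A, Commute a z) → z = 1 := by
  classical
  letI := Fintype.ofFinite H
  haveI := Fact.mk hp
  haveI : IsCyclic A := isCyclic_of_prime_card hA
  have hcomm : ∀ x ∈ A, ∀ y ∈ A, Commute x y := fun x hx y hy =>
    congrArg Subtype.val ((IsCyclic.commGroup (α := A)).mul_comm ⟨x, hx⟩ ⟨y, hy⟩)
  have hAne : A ≠ ⊥ := fun e => hp.ne_one (by rw [← hA, e, Subgroup.card_bot])
  obtain ⟨a, ha, ha1⟩ := (Subgroup.bot_or_exists_ne_one A).resolve_left hAne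
  have hap : a ^ p = 1 := orderOf_dvd_iff_pow_eq_one.1 (hA ▸ Subgroup.orderOf_dvd_natCard A ha)
  have hao : orderOf a = p := orderOf_eq_prime hap ha1
  have hp3 : 3 ≤ p := by have := hp.two_le; omega
  have hj0 : ∀ j : ℕ, j + 1 < p → a ^ (j + 1) ≠ 1 := fun j hj =>
    pow_ne_one_of_lt_orderOf (Nat.succ_ne_zero j) (hao ▸ hj)
  -- products of conjugates of `a` and `a ^ j`
  have hprod : ∀ j : ℕ, j + 1 < p → ∀ c d : H,
      IsConj (a * a ^ j) (c * a * c⁻¹ * (d * a ^ j * d⁻¹)) := by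
    intro j hj c d
    obtain ⟨k, hk, b, hb, e⟩ := htop (c⁻¹ * d)
    have hd : d = c * (k * b) := by rw [← e]; group
    have h1 : b * a ^ j * b⁻¹ = a ^ j := by
      rw [(hcomm b hb _ (pow_mem ha j)).eq, mul_inv_cancel_right]
    have hAk : a * ⁅k, a ^ j⁆ * a⁻¹ = ⁅a * k * a⁻¹, a ^ j⁆ := by
      simp only [commutatorElement_def, mul_inv_rev, inv_inv]
      group
    have e2 : c * a * c⁻¹ * (d * a ^ j * d⁻¹) =
        c * ((a * ⁅k, a ^ j⁆ * a⁻¹) * a ^ (j + 1)) * c⁻¹ := by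
      calc c * a * c⁻¹ * (d * a ^ j * d⁻¹) = c * (a * k * (b * a ^ j * b⁻¹) * k⁻¹) * c⁻¹ := by
            rw [hd]; group
        _ = c * (a * k * a ^ j * k⁻¹) * c⁻¹ := by rw [h1]
        _ = _ := by rw [pow_succ', commutatorElement_def]; group
    have hkQ : ⁅k, a ^ j⁆ * a ^ (j + 1) = ⁅k, a ^ j⁆ * a ^ (j + 1) := rfl
    rw [e2, ← pow_succ']
    refine IsConj.trans ?_ (isConj_iff.2 ⟨c, rfl⟩)
    refine IsConj.trans (hconj k hk (a ^ j) (pow_mem ha j) (a ^ (j + 1)) (pow_mem ha _) (hj0 j hj))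
      (isConj_iff.2 ⟨a, ?_⟩)
    have h2 : a * a ^ (j + 1) * a⁻¹ = a ^ (j + 1) := by group
    calc a * (⁅k, a ^ j⁆ * a ^ (j + 1)) * a⁻¹ =
        (a * ⁅k, a ^ j⁆ * a⁻¹) * (a * a ^ (j + 1) * a⁻¹) := by group
      _ = _ := by rw [h2]
  -- values at `a`
  have hval : ∀ χ : Cfsg.IrrCharacter H, (χ : H → ℂ) a = 0 ∨
      ∀ z ∈ Q, (χ : H → ℂ) (z * a) = (χ : H → ℂ) a := by
    intro χ
    rcases char_zero_or_max hp3 hap χ (fun j hj => by
      rw [pow_succ']
      exact Cfsg.Agent.BrauerPairs.irr_mul_of_product_class a (a ^ j) (hprod j hj) χ) with h | h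
    · exact Or.inl h
    · right
      obtain ⟨n, ρ, hρ, hχ⟩ := χ.2
      rw [← hχ] at h ⊢
      rw [Representation.char_one, Complex.norm_natCast] at h
      obtain ⟨ω, hω⟩ := (norm_char_eq_iff ρ a).1 h
      have hc : ∀ x : H, ρ a * ρ x = ρ x * ρ a := fun x => by
        rw [hω]; ext v; simp
      have hker : ∀ x : H, ∀ b ∈ A, ρ ⁅x, b⁆ = 1 := by
        intro x b hb
        have hAz : A = Subgroup.zpowers a := (Subgroup.eq_of_le_of_card_ge
          (Subgroup.zpowers_le.2 ha) (by rw [Nat.card_zpowers, hao, hA])).symm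
        obtain ⟨i, rfl⟩ : ∃ i : ℕ, b = a ^ i := by
          rw [hAz, mem_zpowers_iff_mem_range_orderOf] at hb
          obtain ⟨i, -, hi⟩ := Finset.mem_image.1 hb
          exact ⟨i, hi.symm⟩
        have hci : ρ (a ^ i) * ρ x⁻¹ = ρ x⁻¹ * ρ (a ^ i) := by
          rw [map_pow]; exact (Commute.pow_left (hc x⁻¹) i).eq
        rw [commutatorElement_def, map_mul, map_mul, map_mul, mul_assoc (ρ x), hci, ← mul_assoc,
          ← map_mul, mul_inv_cancel, map_one, one_mul, ← map_mul, mul_inv_cancel, map_one]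
      intro z hz
      have hz1 : z ∈ ρ.ker := by
        refine (Subgroup.commutator_le.2 fun x _ b hb => ?_) (hQA hz)
        exact hker x b hb
      show LinearMap.trace ℂ _ (ρ (z * a)) = LinearMap.trace ℂ _ (ρ a)
      rw [map_mul, MonoidHom.mem_ker.1 hz1, one_mul]
  intro z hz hzc
  have hconj2 : IsConj (z * a) a := by
    by_contra hne
    have h1 := column_orth_of_not_isConj hne
    have h2 : ∑ χ : Cfsg.IrrCharacter H, (χ : H → ℂ) (z * a) * conj ((χ : H → ℂ) a) =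
        ∑ χ : Cfsg.IrrCharacter H, (χ : H → ℂ) a * conj ((χ : H → ℂ) a) := by
      refine Finset.sum_congr rfl fun χ _ => ?_
      rcases hval χ with h | h
      · simp [h]
      · rw [h z hz]
    rw [h2, column_orth_of_isConj (IsConj.refl a), Nat.cast_eq_zero] at h1
    exact Nat.card_pos.ne' h1
  obtain ⟨g, hg⟩ := isConj_iff.1 hconj2.symm
  obtain ⟨k, hk, b, hb, rfl⟩ := htop g
  have h1 : b * a * b⁻¹ = a := by rw [(hcomm b hb a ha).eq, mul_inv_cancel_right]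
  have h2 : z = ⁅k, a⁆ := by
    rw [commutatorElement_def]
    calc z = k * b * a * (k * b)⁻¹ * a⁻¹ := by rw [hg, mul_inv_cancel_right]
      _ = k * (b * a * b⁻¹) * k⁻¹ * a⁻¹ := by group
      _ = _ := by rw [h1]
  rw [h2] at hzc ⊢
  exact hfix k hk a ha hzc

/-- The same inside an ambient group. -/
theorem fixed_trivial {G : Type u} [Group G] [Finite G] {p : ℕ} (hp : p.Prime) (hp2 : p ≠ 2)
    {A Q : Subgroup G} (hA : Nat.card A = p) (hn : A ≤ Subgroup.normalizer (Q : Set G))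
    (hQA : Q ≤ ⁅Q, A⁆)
    (hconj : ∀ k ∈ Q, ∀ b ∈ A, ∀ c ∈ A, c ≠ 1 → ∃ v ∈ Q, v * c * v⁻¹ = ⁅k, b⁆ * c)
    (hfix : ∀ k ∈ Q, ∀ b ∈ A, (∀ a ∈ A, Commute a ⁅k, b⁆) → ⁅k, b⁆ = 1) :
    ∀ z ∈ Q, (∀ a ∈ A, Commute a z) → z = 1 := by
  set S := Q ⊔ A with hS
  have hAS : A ≤ S := le_sup_right
  have hQS : Q ≤ S := le_sup_left
  have key := fixed_trivial_aux (H := S) hp hp2 (A := A.subgroupOf S) (Q := Q.subgroupOf S)
    (by rw [Nat.card_congr (Subgroup.subgroupOfEquivOfLe hAS).toEquiv, hA]) ?_ ?_ ?_ ?_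
  · intro z hz hc
    exact congrArg Subtype.val (key ⟨z, hQS hz⟩ hz fun a ha => Subtype.ext (hc a ha).eq)
  · intro x
    obtain ⟨k, hk, b, hb, e⟩ := mem_sup_of_le_normalizer hn x.2
    exact ⟨⟨k, hQS hk⟩, hk, ⟨b, hAS hb⟩, hb, Subtype.ext e⟩
  · have h1 : (Q.subgroupOf S).map S.subtype ≤ (⁅Q.subgroupOf S, A.subgroupOf S⁆).map S.subtype := by
      rw [Subgroup.map_commutator, Subgroup.map_subgroupOf_eq_of_le hQS,
        Subgroup.map_subgroupOf_eq_of_le hAS]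
      exact hQA
    exact (Subgroup.map_le_map_iff_of_injective S.subtype_injective).1 h1
  · intro k hk b hb c hc hc1
    obtain ⟨v, hv, e⟩ := hconj k hk b hb c hc (fun e => hc1 (Subtype.ext e))
    exact isConj_iff.2 ⟨⟨v, hQS hv⟩, Subtype.ext e⟩
  · intro k hk b hb hcom
    refine Subtype.ext (hfix k hk b hb fun a ha => ?_)
    exact congrArg Subtype.val (hcom ⟨a, hAS ha⟩ ha).eq

end Cfsg.Agent.OddPairs
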