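import Cfsg.Agent.Lib.OddPairs.Main
import Cfsg.Agent.Lib.OddPairs.FixedPoints
import Cfsg.Agent.Lib.Solvable.Coprime

/-!
# Pairs generating a fixed group of odd order

Two members generating a group isomorphic to a fixed group of odd order form a `PairSys`.
-/

set_option autoImplicit false
set_option linter.unusedSectionVars false
set_option linter.style.haveILetI false

namespace Cfsg.Agent.OddPairs

open scoped commutatorElement

universe u v

variable {G : Type u} [Group G] [Finite G]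

/-- An element of order prime to `p` in `K A` lies in `K`. -/
theorem mem_of_coprime_order {p : ℕ} {K A : Subgroup G} (hA : Nat.card A = p)
    (hn : A ≤ Subgroup.normalizer (K : Set G)) {x : G} (hx : x ∈ K ⊔ A)
    (hco : p.Coprime (orderOf x)) : x ∈ K := by
  obtain ⟨k, hk, a, ha, e⟩ := mem_sup_of_le_normalizer hn hx
  obtain ⟨k', hk', e'⟩ := pow_mul_mem hk (hn ha) p
  have hap : a ^ p = 1 :=
    orderOf_dvd_iff_pow_eq_one.1 ((Subgroup.orderOf_dvd_natCard A ha).trans (dvd_of_eq hA))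
  rw [← e, hap, mul_one] at e'
  obtain ⟨m, hm⟩ := exists_pow_eq_self_of_coprime hco
  rw [← hm, e']
  exact K.pow_mem hk' m

theorem coprime_order_of_qgroup {p q : ℕ} (hp : p.Prime) (hq : q.Prime) (hne : q ≠ p) {x : G}
    {n : ℕ} (hx : x ^ q ^ n = 1) : p.Coprime (orderOf x) :=
  ((Nat.coprime_primes hp hq).2 hne.symm |>.pow_right n).coprime_dvd_right
    (orderOf_dvd_of_pow_eq_one hx)

/-- An element normalising `A` and a group `R` meeting `A` trivially, normalised by `A`,
centralises `A`. -/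
theorem commute_of_mem_of_normalises {R A : Subgroup G} (hd : R ⊓ A = ⊥)
    (hn : A ≤ Subgroup.normalizer (R : Set G)) {x : G} (hx : x ∈ R)
    (hxA : x ∈ Subgroup.normalizer (A : Set G)) : ∀ a ∈ A, Commute x a := by
  intro a ha
  rw [← commutatorElement_eq_one_iff_commute, ← Subgroup.mem_bot, ← hd]
  refine ⟨?_, ?_⟩
  · rw [commutatorElement_def, mul_assoc x, mul_assoc x]
    exact R.mul_mem hx (((Subgroup.mem_normalizer_iff.1 (hn ha)) _).1 (R.inv_mem hx))
  · rw [commutatorElement_def]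
    exact A.mul_mem (((Subgroup.mem_normalizer_iff.1 hxA) a).1 ha) (A.inv_mem ha)

/-- The hypothesis on pairs, with the consequence that no pair commutes. -/
structure FPairs (p : ℕ) (F : Type v) [Group F] (D : Set (Subgroup G)) : Prop where
  prime_p : p.Prime
  odd_p : p ≠ 2
  card : ∀ A ∈ D, Nat.card A = p
  conj : ∀ A ∈ D, ∀ g : G, conjS g A ∈ D
  odd_F : Odd (Nat.card F)
  iso : ∀ A ∈ D, ∀ B ∈ D, A ≠ B → Nonempty (↥(A ⊔ B) ≃* F)
  noncomm : ∀ A ∈ D, ∀ B ∈ D, A ≠ B → ¬ ∀ a ∈ A, ∀ b ∈ B, Commute a b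

/-- If some pair commutes, the group is abelian. -/
theorem noncomm_of_not_comm {F : Type v} [Group F] {D : Set (Subgroup G)}
    (hG : ¬ IsMulCommutative G) (hgen : sSup D = ⊤)
    (hiso : ∀ A ∈ D, ∀ B ∈ D, A ≠ B → Nonempty (↥(A ⊔ B) ≃* F))
    (hcyc : ∀ A ∈ D, ∀ a ∈ A, ∀ b ∈ A, Commute a b) :
    ∀ A ∈ D, ∀ B ∈ D, A ≠ B → ¬ ∀ a ∈ A, ∀ b ∈ B, Commute a b := by
  intro A hA B hB hne hc
  refine hG (IsMulCommutative.of_comm fun x y => ?_)
  have h1 : ∀ u ∈ A ⊔ B, ∀ w ∈ A ⊔ B, Commute u w := by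
    have hAc : A ⊔ B ≤ Subgroup.centralizer (A : Set G) := sup_le
      (fun a ha => Subgroup.mem_centralizer_iff.2 fun b hb => (hcyc A hA b hb a ha).eq)
      (fun b hb => Subgroup.mem_centralizer_iff.2 fun a ha => (hc a ha b hb).eq)
    have hBc : A ⊔ B ≤ Subgroup.centralizer (B : Set G) := sup_le
      (fun a ha => Subgroup.mem_centralizer_iff.2 fun b hb => (hc a ha b hb).symm.eq)
      (fun b hb => Subgroup.mem_centralizer_iff.2 fun a ha => (hcyc B hB a ha b hb).eq)
    have h3 : A ⊔ B ≤ Subgroup.centralizer ((A ⊔ B : Subgroup G) : Set G) :=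
      sup_le (Subgroup.le_centralizer_iff.1 hAc) (Subgroup.le_centralizer_iff.1 hBc)
    exact fun u hu w hw => Subgroup.mem_centralizer_iff.1 (h3 hw) u hu
  obtain ⟨e⟩ := hiso A hA B hB hne
  have hFc : ∀ u w : F, Commute u w := fun u w => by
    have := congrArg e (Subtype.ext (h1 _ (e.symm u).2 _ (e.symm w).2).eq :
      e.symm u * e.symm w = e.symm w * e.symm u)
    simpa [map_mul, commute_iff_eq] using this
  have hDc : ∀ A ∈ D, sSup D ≤ Subgroup.centralizer (A : Set G) := fun A' hA' =>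
    sSup_le fun B' hB' b hb => Subgroup.mem_centralizer_iff.2 fun a ha => by
      by_cases hAB : A' = B'
      · exact (hcyc A' hA' a ha b (hAB ▸ hb)).eq
      · obtain ⟨f⟩ := hiso A' hA' B' hB' hAB
        exact congrArg Subtype.val (f.injective (by
          rw [map_mul, map_mul, (hFc _ _).eq]) :
          (⟨a, le_sup_left (b := B') ha⟩ : ↥(A' ⊔ B')) * ⟨b, le_sup_right (a := A') hb⟩ =
            ⟨b, le_sup_right (a := A') hb⟩ * ⟨a, le_sup_left (b := B') ha⟩)
  have hcent : sSup D ≤ Subgroup.center G := sSup_le fun A' hA' a ha =>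
    Subgroup.mem_center_iff.2 fun g =>
      (Subgroup.mem_centralizer_iff.1 (hDc A' hA' (hgen ▸ Subgroup.mem_top g)) a ha).symm
  exact (Subgroup.mem_center_iff.1 (hcent (hgen ▸ Subgroup.mem_top y)) x)

namespace FPairs

variable {p : ℕ} {F : Type v} [Group F] {D : Set (Subgroup G)} (h : FPairs p F D)

include h

theorem isPGroup {A : Subgroup G} (hA : A ∈ D) : IsPGroup p A :=
  IsPGroup.of_card (n := 1) (by rw [h.card A hA, pow_one])

theorem eq_of_le {A B : Subgroup G} (hA : A ∈ D) (hB : B ∈ D) (hle : A ≤ B) : A = B :=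
  Subgroup.eq_of_le_of_card_ge hle (by rw [h.card A hA, h.card B hB])

theorem eq_of_normalises {A B : Subgroup G} (hA : A ∈ D) (hB : B ∈ D)
    (hn : B ≤ Subgroup.normalizer (A : Set G)) : A = B := by
  by_contra hne
  refine h.noncomm A hA B hB hne fun a ha b hb => (commute_of_normalises h.prime_p (h.card A hA)
    (hn hb) ?_ a ha).symm
  refine (((h.prime_p.coprime_iff_not_dvd).2 ?_).coprime_dvd_left
    (h.card B hB ▸ Subgroup.orderOf_dvd_natCard B hb))
  intro hd
  have := Nat.le_of_dvd (by have := h.prime_p.two_le; omega) hd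
  have := h.prime_p.two_le
  omega

theorem no_two_in_pgroup {A B P : Subgroup G} (hA : A ∈ D) (hB : B ∈ D) (hP : IsPGroup p P)
    (hAP : A ≤ P) (hBP : B ≤ P) : A = B := by
  haveI := Fact.mk h.prime_p
  by_contra hne
  haveI : Group.IsNilpotent P := hP.isNilpotent
  set N := Subgroup.normalizer (A : Set G) with hN
  have hlt : N.subgroupOf P < ⊤ := lt_top_iff_ne_top.2 fun e => hne
    (h.eq_of_normalises hA hB (hBP.trans (Subgroup.subgroupOf_eq_top.1 e)))
  obtain ⟨g, hg, hgN⟩ := SetLike.exists_of_lt (Group.normalizerCondition_of_isNilpotent _ hlt)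
  have hle : conjS (g : G) A ≤ N := by
    intro x hx
    rw [mem_conjS] at hx
    have hxP : x ∈ P := by
      have := P.mul_mem (P.mul_mem g.2 (hAP hx)) (P.inv_mem g.2)
      simpa [mul_assoc] using this
    have h1 := ((Subgroup.mem_normalizer_iff.1 hg) (g⁻¹ * ⟨x, hxP⟩ * g)).1
      (Subgroup.mem_subgroupOf.2 (Subgroup.le_normalizer hx))
    simpa [mul_assoc, Subgroup.mem_subgroupOf] using h1
  exact hgN (Subgroup.mem_subgroupOf.2
    (conjS_eq_self_iff.1 (h.eq_of_normalises hA (h.conj A hA g) hle).symm))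

theorem card_sup {A B : Subgroup G} (hA : A ∈ D) (hB : B ∈ D) (hne : A ≠ B) :
    Nat.card (A ⊔ B : Subgroup G) = Nat.card F := by
  obtain ⟨e⟩ := h.iso A hA B hB hne
  exact Nat.card_congr e.toEquiv

/-- The `p'`-core of a pair is a complement to either member. -/
theorem exists_complement {A B : Subgroup G} (hA : A ∈ D) (hB : B ∈ D) (hne : A ≠ B) :
    ∃ K : Subgroup G, (Nat.card K).Coprime p ∧ A ⊔ B = K ⊔ A ∧
      A ⊔ B ≤ Subgroup.normalizer (K : Set G) := by
  haveI := Fact.mk h.prime_p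
  set X := A ⊔ B with hX
  have hsol : Group.IsSolvable X :=
    Cfsg.Agent.OddChar.oddSolvable X (by rw [hX, h.card_sup hA hB hne]; exact h.odd_F)
  set N := Cfsg.pPrimeCore p X with hN
  haveI : N.Normal := Cfsg.Agent.FittingCores.pPrimeCore_normal p
  set π := QuotientGroup.mk' N with hπ
  have hπs : Function.Surjective π := QuotientGroup.mk'_surjective N
  haveI : Group.IsSolvable (X ⧸ N) := Group.isSolvable_of_surjective hπs
  have hHH := Cfsg.Agent.FittingCores.centralizer_pCore_le (G := X ⧸ N) h.prime_p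
    (Cfsg.Agent.FittingCores.pPrimeCore_quotient_eq_bot p N hN)
  have hcen : ∀ E : Subgroup G, E ∈ D → E ≤ X →
      (E.subgroupOf X).map π ≤ Cfsg.pCore p (X ⧸ N) := by
    intro E hE hEX
    refine le_trans ?_ hHH
    obtain ⟨S, hS⟩ := ((h.isPGroup hE).comap_of_injective X.subtype X.subtype_injective).exists_le_sylow
    rintro _ ⟨e, he, rfl⟩
    refine Subgroup.mem_centralizer_iff.2 fun y hy => ?_
    obtain ⟨s, hs, rfl⟩ :=
      Cfsg.Agent.FittingCores.pCore_le_sylow (S.mapSurjective hπs) hy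
    have hle : conjS (s : G) E ≤ (S : Subgroup X).map X.subtype := by
      intro x hx
      have hxX : x ∈ X := by
        have := X.mul_mem (X.mul_mem s.2 (hEX (mem_conjS.1 hx))) (X.inv_mem s.2)
        simpa [mul_assoc] using this
      have hyE : (s : G)⁻¹ * x * s ∈ E := mem_conjS.1 hx
      have hyS : s⁻¹ * ⟨x, hxX⟩ * s ∈ (S : Subgroup X) := hS hyE
      refine ⟨⟨x, hxX⟩, ?_, rfl⟩
      have e2 : (⟨x, hxX⟩ : X) = s * (s⁻¹ * ⟨x, hxX⟩ * s) * s⁻¹ := by group
      rw [e2]
      exact mul_mem (mul_mem hs hyS) (inv_mem hs)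
    have hEle : E ≤ (S : Subgroup X).map X.subtype := fun x hx => ⟨⟨x, hEX hx⟩, hS hx, rfl⟩
    have heq := h.no_two_in_pgroup (h.conj E hE s) hE (S.isPGroup'.map _) hle hEle
    have hso : (orderOf (s : G)).Coprime (p - 1) := by
      obtain ⟨k, hk⟩ := S.isPGroup' ⟨s, hs⟩
      refine Nat.Coprime.coprime_dvd_left (orderOf_dvd_of_pow_eq_one
        (show (s : G) ^ p ^ k = 1 by simpa using congrArg (fun w : (S : Subgroup X) => ((w : X) : G)) hk))
        (Nat.Coprime.pow_left _ ?_)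
      rw [h.prime_p.coprime_iff_not_dvd]
      intro hd
      have := Nat.le_of_dvd (by have := h.prime_p.two_le; omega) hd
      have := h.prime_p.two_le
      omega
    have hc := commute_of_normalises h.prime_p (h.card E hE) (conjS_eq_self_iff.1 heq) hso
      (e : G) he
    rw [← map_mul, ← map_mul]
    exact congrArg π (Subtype.ext hc.eq)
  obtain ⟨S, hS⟩ := ((h.isPGroup hA).comap_of_injective X.subtype X.subtype_injective).exists_le_sylow
  have htop : ⊤ ≤ Cfsg.pCore p (X ⧸ N) := by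
    have e : (A.subgroupOf X ⊔ B.subgroupOf X).map π = ⊤ := by
      rw [← Subgroup.subgroupOf_sup le_sup_left le_sup_right]
      show (X.subgroupOf X).map π = ⊤
      rw [Subgroup.subgroupOf_self, Subgroup.map_top_of_surjective π hπs]
    rw [← e, Subgroup.map_sup]
    exact sup_le (hcen A hA le_sup_left) (hcen B hB le_sup_right)
  have hNS : ⊤ ≤ N ⊔ (S : Subgroup X) := by
    intro x _
    obtain ⟨s, hs, e⟩ := (htop.trans (Cfsg.Agent.FittingCores.pCore_le_sylow (S.mapSurjective hπs)))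
      (Subgroup.mem_top (π x))
    rw [hπ, QuotientGroup.mk'_apply, QuotientGroup.mk'_apply, QuotientGroup.eq] at e
    have e2 : x = s * (s⁻¹ * x) := by group
    rw [e2]
    exact mul_mem (le_sup_right (a := N) hs) (le_sup_left (b := (S : Subgroup X)) e)
  set K := N.map X.subtype with hK
  set P := (S : Subgroup X).map X.subtype with hP
  have hXKP : X = K ⊔ P := by
    rw [hK, hP, ← Subgroup.map_sup, top_le_iff.1 hNS, ← MonoidHom.range_eq_map, Subgroup.range_subtype]
  have hKn : X ≤ Subgroup.normalizer (K : Set G) := by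
    have h1 := Subgroup.le_normalizer_map (H := N) X.subtype
    rwa [Subgroup.normalizer_eq_top, ← MonoidHom.range_eq_map, Subgroup.range_subtype] at h1
  have hKco : (Nat.card K).Coprime p := by
    rw [hK, Subgroup.card_map_of_injective X.subtype_injective]
    exact Cfsg.Agent.FittingCores.pPrimeCore_coprime p
  obtain ⟨k, hk, hBk⟩ := exists_conj_of_sup (Subgroup.map_subtype_le _ |>.trans hKn)
    (h.isPGroup hB) (hXKP ▸ le_sup_right : B ≤ K ⊔ P) (h.prime_p.coprime_iff_not_dvd.1 hKco.symm)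
  have hB' : conjS k⁻¹ B ≤ P := by
    intro x hx
    rw [mem_conjS, inv_inv] at hx
    have := mem_conjS.1 (hBk hx)
    rwa [show k⁻¹ * (k * x * k⁻¹) * k = x by group] at this
  have hAP : A ≤ P := fun x hx => ⟨⟨x, le_sup_left (b := B) hx⟩, hS hx, rfl⟩
  have hBA : conjS k⁻¹ B = A := h.no_two_in_pgroup (h.conj B hB _) hA (S.isPGroup'.map _) hB' hAP
  refine ⟨K, hKco, le_antisymm ?_ (sup_le (Subgroup.map_subtype_le N) le_sup_left), hKn⟩
  refine sup_le le_sup_right ?_
  calc B = conjS k (conjS k⁻¹ B) := by rw [← conjS_mul, mul_inv_cancel, conjS_one]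
    _ ≤ K ⊔ A := hBA.symm ▸ conjS_le le_sup_right (le_sup_left (b := A) hk)

/-- The complement is a prime power group. -/
theorem exists_prime_complement [Finite F] {A B : Subgroup G} (hA : A ∈ D) (hB : B ∈ D)
    (hne : A ≠ B) :
    ∃ r : ℕ, r.Prime ∧ r ≠ p ∧ ∃ K : Subgroup G, IsPGroup r K ∧ K ≠ ⊥ ∧
      A ⊔ B = K ⊔ A ∧ A ⊔ B ≤ Subgroup.normalizer (K : Set G) := by
  haveI := Fact.mk h.prime_p
  obtain ⟨K, hKco, hsup, hn⟩ := h.exists_complement hA hB hne
  have hnA : A ≤ Subgroup.normalizer (K : Set G) := le_sup_left.trans hn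
  have hnotc : ¬ ∀ x ∈ K, ∀ a ∈ A, Commute x a := by
    intro hc
    refine hne (h.eq_of_normalises hA hB ?_)
    refine (le_sup_right (a := A)).trans (hsup.le.trans (sup_le ?_ Subgroup.le_normalizer))
    exact fun x hx => conjS_eq_self_iff.1 (conjS_eq_self_of_commute (hc x hx))
  have hKne : K ≠ ⊥ := by
    rintro rfl
    exact hnotc fun x hx a _ => by rw [Subgroup.mem_bot.1 hx]; exact Commute.one_left a
  have hdisj : ∀ R : Subgroup G, R ≤ K → R ⊓ A = ⊥ := fun R hR => le_bot_iff.1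
    ((inf_le_inf_right A hR).trans (Subgroup.disjoint_of_coprime_natCard
      (by rw [h.card A hA]; exact hKco)).eq_bot.le)
  by_contra hcon
  refine hnotc fun x hx a ha => ?_
  have key : ∀ r : ℕ, r.Prime → r ∣ Nat.card K →
      r ^ (Nat.card K).factorization r ∣
        Nat.card ((Subgroup.centralizer (A : Set G)).subgroupOf K) := by
    intro r hr hrd
    haveI := Fact.mk hr
    have hrp : r ≠ p := fun e => h.prime_p.coprime_iff_not_dvd.1 hKco.symm (e ▸ hrd)
    haveI : IsCyclic A := isCyclic_of_prime_card (h.card A hA)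
    obtain ⟨S, hS⟩ := Cfsg.Agent.CoprimeAct.exists_invariant_sylow (A := A) (K := K) hnA
      (by rw [h.card A hA]; exact hKco.symm)
      (Or.inl (letI := IsCyclic.commGroup (α := A); inferInstance)) r
    set R := (S : Subgroup K).map K.subtype with hR
    have hall : ∀ y ∈ R, conjS y A = A := by
      intro y hy
      by_contra hne'
      have h1 := h.card_sup hA (h.conj A hA y) (Ne.symm hne')
      have h2 : A ⊔ conjS y A ≤ R ⊔ A :=
        sup_le le_sup_right (conjS_le le_sup_right (le_sup_left (b := A) hy))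
      have h3 := Subgroup.card_le_of_le (G := G) h2
      rw [h1, ← h.card_sup hA hB hne, hsup, Cfsg.Agent.SolvBasic.card_sup_of_inf_eq_bot hnA
        (hdisj K le_rfl), Cfsg.Agent.SolvBasic.card_sup_of_inf_eq_bot hS
        (hdisj R (Subgroup.map_subtype_le _))] at h3
      have h4 : R = K := Subgroup.eq_of_le_of_card_ge (Subgroup.map_subtype_le _)
        (Nat.le_of_mul_le_mul_right h3 Nat.card_pos)
      exact hcon ⟨r, hr, hrp, K, h4 ▸ S.isPGroup'.map _, hKne, hsup, hn⟩
    rw [← Sylow.card_eq_multiplicity S]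
    refine Subgroup.card_dvd_of_le fun y hy => Subgroup.mem_subgroupOf.2
      (Subgroup.mem_centralizer_iff.2 fun a ha => ?_)
    have hyR : (y : G) ∈ R := ⟨y, hy, rfl⟩
    exact (commute_of_mem_of_normalises (hdisj R (Subgroup.map_subtype_le _)) hS hyR
      (conjS_eq_self_iff.1 (hall y hyR)) a ha).symm.eq
  set C := (Subgroup.centralizer (A : Set G)).subgroupOf K with hC
  have hdvd : Nat.card K ∣ Nat.card C := by
    refine (Nat.dvd_iff_prime_pow_dvd_dvd _ _).2 fun r k hr hd => ?_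
    rcases Nat.eq_zero_or_pos k with rfl | hk
    · simp
    · refine (pow_dvd_pow r ?_).trans (key r hr ((dvd_pow_self r hk.ne').trans hd))
      exact (hr.pow_dvd_iff_le_factorization Nat.card_pos.ne').1 hd
  have hCtop : C = ⊤ := Subgroup.eq_top_of_le_card C (Nat.le_of_dvd Nat.card_pos hdvd)
  have h5 : (⟨x, hx⟩ : K) ∈ C := hCtop ▸ Subgroup.mem_top _
  exact ((Subgroup.mem_centralizer_iff.1 (Subgroup.mem_subgroupOf.1 h5)) a ha).symm

/-- One prime works for all pairs. -/
theorem exists_q [Finite F] (hne : ∃ A ∈ D, ∃ B ∈ D, A ≠ B) :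
    ∃ q : ℕ, q.Prime ∧ q ≠ 2 ∧ q ≠ p ∧ ∀ A ∈ D, ∀ B ∈ D, A ≠ B →
      ∃ K : Subgroup G, IsPGroup q K ∧ A ⊔ B = K ⊔ A ∧
        A ⊔ B ≤ Subgroup.normalizer (K : Set G) := by
  haveI := Fact.mk h.prime_p
  obtain ⟨A₀, hA₀, B₀, hB₀, hne₀⟩ := hne
  have hcard : ∀ A ∈ D, ∀ B ∈ D, A ≠ B → ∃ r n : ℕ, r.Prime ∧ r ≠ p ∧ n ≠ 0 ∧
      Nat.card F = r ^ n * p ∧ ∃ K : Subgroup G, IsPGroup r K ∧ A ⊔ B = K ⊔ A ∧
        A ⊔ B ≤ Subgroup.normalizer (K : Set G) := by
    intro A hA B hB hne
    obtain ⟨r, hr, hrp, K, hK, hK0, hsup, hn⟩ := h.exists_prime_complement hA hB hne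
    haveI := Fact.mk hr
    obtain ⟨n, hn'⟩ := IsPGroup.iff_card.1 hK
    refine ⟨r, n, hr, hrp, ?_, ?_, K, hK, hsup, hn⟩
    · rintro rfl
      exact hK0 (Subgroup.eq_bot_of_card_eq _ (by simpa using hn'))
    · rw [← h.card_sup hA hB hne, hsup, Cfsg.Agent.SolvBasic.card_sup_of_inf_eq_bot
        (le_sup_left.trans hn) ((IsPGroup.disjoint_of_ne r p hrp K A hK (h.isPGroup hA)).eq_bot),
        hn', h.card A hA]
  obtain ⟨q, n, hq, hqp, hn0, hF, -⟩ := hcard A₀ hA₀ B₀ hB₀ hne₀
  refine ⟨q, hq, ?_, hqp, fun A hA B hB hne => ?_⟩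
  · rintro rfl
    exact (Nat.not_even_iff_odd.2 h.odd_F) (by
      rw [hF]; exact ((even_iff_two_dvd.2 (dvd_pow_self 2 hn0)).mul_right p))
  · obtain ⟨r, m, hr, hrp, hm0, hF', hK⟩ := hcard A hA B hB hne
    have hd : r ∣ q ^ n * p := by rw [← hF, hF']; exact (dvd_pow_self r hm0).mul_right p
    rcases hr.dvd_mul.1 hd with h1 | h1
    · rwa [(Nat.prime_dvd_prime_iff_eq hr hq).1 (hr.dvd_of_dvd_pow h1)] at hK
    · exact absurd ((Nat.prime_dvd_prime_iff_eq hr h.prime_p).1 h1) hrp

end FPairs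

end Cfsg.Agent.OddPairs
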