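import Mathlib

/-!
# Groups generated by subgroups of prime order with special pairs

`D` is a conjugation invariant set of subgroups of prime order `p`; two of them generate a
`q`-group extended by one of them.
-/

set_option autoImplicit false
set_option linter.unusedSectionVars false
set_option linter.style.haveILetI false

namespace Cfsg.Agent.OddPairs

open scoped commutatorElement

universe u

variable {G : Type u} [Group G]

/-- The conjugate `g A g⁻¹`. -/
def conjS (g : G) (A : Subgroup G) : Subgroup G := A.map (MulAut.conj g).toMonoidHom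

theorem mem_conjS {g : G} {A : Subgroup G} {x : G} : x ∈ conjS g A ↔ g⁻¹ * x * g ∈ A := by
  constructor
  · rintro ⟨a, ha, rfl⟩
    simpa [mul_assoc] using ha
  · intro hx
    exact ⟨_, hx, by simp [mul_assoc]⟩

theorem conj_mem_conjS {g : G} {A : Subgroup G} {a : G} (ha : a ∈ A) :
    g * a * g⁻¹ ∈ conjS g A :=
  mem_conjS.2 (by simpa [mul_assoc] using ha)

@[simp] theorem conjS_one (A : Subgroup G) : conjS 1 A = A := by
  ext x; simp [mem_conjS]

theorem conjS_mul (g k : G) (A : Subgroup G) : conjS (g * k) A = conjS g (conjS k A) := by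
  ext x; simp [mem_conjS, mul_assoc]

theorem conjS_le {g : G} {A H : Subgroup G} (hA : A ≤ H) (hg : g ∈ H) : conjS g A ≤ H := by
  intro x hx
  have h1 := hA (mem_conjS.1 hx)
  simpa [mul_assoc] using H.mul_mem (H.mul_mem hg h1) (H.inv_mem hg)

theorem conjS_mono {g : G} {A B : Subgroup G} (h : A ≤ B) : conjS g A ≤ conjS g B :=
  Subgroup.map_mono h

theorem conjS_sup (g : G) (A B : Subgroup G) : conjS g (A ⊔ B) = conjS g A ⊔ conjS g B :=
  Subgroup.map_sup _ _ _

theorem card_conjS (g : G) (A : Subgroup G) : Nat.card (conjS g A) = Nat.card A :=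
  Subgroup.card_map_of_injective (MulAut.conj g).injective

theorem conjS_eq_self_iff {g : G} {A : Subgroup G} :
    conjS g A = A ↔ g ∈ Subgroup.normalizer (A : Set G) := by
  rw [Subgroup.mem_normalizer_iff'']
  constructor
  · intro h x
    rw [← mem_conjS, h]
  · intro h
    ext x
    rw [mem_conjS, ← h]

theorem conjS_eq_self_of_commute {g : G} {A : Subgroup G} (h : ∀ a ∈ A, Commute g a) :
    conjS g A = A := by
  ext x
  rw [mem_conjS]
  constructor
  · intro hx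
    have h2 : g⁻¹ * x * g = x := by
      have e := (h _ hx).eq
      rw [← mul_assoc, ← mul_assoc, mul_inv_cancel, one_mul] at e
      exact mul_right_cancel e.symm
    exact h2 ▸ hx
  · intro hx
    have h2 : g⁻¹ * x * g = x := by rw [mul_assoc, ← (h x hx).eq, inv_mul_cancel_left]
    rwa [h2]

/-- `Q` is a `q`-group normalised by `A` with `Q = [Q, A]`. -/
def Tight (q : ℕ) (A Q : Subgroup G) : Prop :=
  IsPGroup q Q ∧ A ≤ Subgroup.normalizer (Q : Set G) ∧ Q ≤ ⁅Q, A⁆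

/-- The basic hypothesis. -/
structure PairSys (p q : ℕ) (D : Set (Subgroup G)) : Prop where
  prime_p : p.Prime
  prime_q : q.Prime
  odd_p : p ≠ 2
  odd_q : q ≠ 2
  ne : q ≠ p
  card : ∀ A ∈ D, Nat.card A = p
  conj : ∀ A ∈ D, ∀ g : G, conjS g A ∈ D
  pair : ∀ A ∈ D, ∀ B ∈ D, A ≠ B → ∃ K : Subgroup G, IsPGroup q K ∧ A ⊔ B = K ⊔ A ∧
    A ⊔ B ≤ Subgroup.normalizer (K : Set G)
  minimal : ∀ A ∈ D, ∀ B ∈ D, ∀ A' ∈ D, ∀ B' ∈ D, A ≠ B → A' ≠ B' → A' ≤ A ⊔ B → B' ≤ A ⊔ B →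
    A ⊔ B ≤ A' ⊔ B'
  cen : ∀ A ∈ D, ∀ Q : Subgroup G, Tight q A Q → ∀ z ∈ Q, (∀ a ∈ A, Commute a z) →
    ∀ x ∈ Q, Commute z x
  special : (∀ A ∈ D, ∀ Q : Subgroup G, Tight q A Q → ∀ x ∈ Q, ∀ y ∈ Q, ∀ a ∈ A,
      Commute a ⁅x, y⁆) ∨
    (∀ A ∈ D, ∀ Q : Subgroup G, Tight q A Q → ∀ z ∈ Q, (∀ a ∈ A, Commute a z) → z = 1)

theorem pow_mul_mem {K : Subgroup G} {a k : G} (hk : k ∈ K)
    (ha : a ∈ Subgroup.normalizer (K : Set G)) : ∀ i : ℕ, ∃ k' ∈ K, (k * a) ^ i = k' * a ^ i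
  | 0 => ⟨1, K.one_mem, by simp⟩
  | i + 1 => by
    obtain ⟨k', hk', e⟩ := pow_mul_mem hk ha i
    refine ⟨k' * (a ^ i * k * (a ^ i)⁻¹),
      K.mul_mem hk' (((Subgroup.mem_normalizer_iff.1 (pow_mem ha i)) k).1 hk), ?_⟩
    rw [pow_succ, e, pow_succ]; group

theorem mem_sup_of_le_normalizer {K A : Subgroup G} (hn : A ≤ Subgroup.normalizer (K : Set G))
    {x : G} (hx : x ∈ K ⊔ A) : ∃ k ∈ K, ∃ a ∈ A, x = k * a := by
  rw [sup_comm] at hx
  have hx' : x ∈ ((A ⊔ K : Subgroup G) : Set G) := hx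
  rw [Subgroup.coe_mul_of_left_le_normalizer_right A K hn] at hx'
  obtain ⟨a, ha, k, hk, rfl⟩ := hx'
  exact ⟨a * k * a⁻¹, ((Subgroup.mem_normalizer_iff.1 (hn ha)) k).1 hk, a, ha, by group⟩

section Finite

variable [Finite G]

/-- A subgroup whose order is prime to the index lies in a conjugate. -/
theorem exists_conj_of_sup {r : ℕ} [Fact r.Prime] {K A W : Subgroup G}
    (hn : A ≤ Subgroup.normalizer (K : Set G)) (hW : IsPGroup r W) (hWle : W ≤ K ⊔ A)
    (hr : ¬ r ∣ Nat.card K) : ∃ k ∈ K, W ≤ conjS k A := by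
  let S := K ⊔ A
  let α := (↥S ⧸ A.subgroupOf S)
  letI actK : MulAction K α := MulAction.compHom α (Subgroup.inclusion (le_sup_left : K ≤ S))
  letI actW : MulAction W α := MulAction.compHom α (Subgroup.inclusion hWle)
  haveI htrans : MulAction.IsPretransitive K α := by
    have key : ∀ y : α, ∃ k : K, k • (QuotientGroup.mk (1 : S) : α) = y := by
      intro y
      induction y using QuotientGroup.induction_on with
      | _ s =>
        obtain ⟨k, hk, a, ha, hs⟩ := mem_sup_of_le_normalizer hn s.2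
        refine ⟨⟨k, hk⟩, ?_⟩
        show (QuotientGroup.mk ((Subgroup.inclusion (le_sup_left : K ≤ S) ⟨k, hk⟩) * 1) : α) = _
        rw [QuotientGroup.eq, Subgroup.mem_subgroupOf]
        simp only [mul_one, Subgroup.coe_mul, Subgroup.coe_inv, Subgroup.coe_inclusion, hs]
        simpa using ha
    exact ⟨fun y z => by
      obtain ⟨k1, hk1⟩ := key y
      obtain ⟨k2, hk2⟩ := key z
      exact ⟨k2 * k1⁻¹, by rw [← hk1, mul_smul, inv_smul_smul, hk2]⟩⟩
  haveI : Nonempty α := ⟨QuotientGroup.mk 1⟩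
  haveI : Finite α := inferInstance
  have hdvd : Nat.card α ∣ Nat.card K := by
    rw [← MulAction.index_stabilizer_of_transitive K (QuotientGroup.mk (1 : S) : α)]
    exact Subgroup.index_dvd_card _
  obtain ⟨y, hy⟩ := hW.nonempty_fixed_point_of_prime_not_dvd_card α
    (fun h => hr (h.trans hdvd))
  obtain ⟨k, hk⟩ := MulAction.exists_smul_eq K (QuotientGroup.mk (1 : S) : α) y
  refine ⟨k, k.2, fun w hw => mem_conjS.2 ?_⟩
  have h1 := hy ⟨w, hw⟩
  rw [← hk] at h1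
  have h2 : (QuotientGroup.mk ((Subgroup.inclusion hWle ⟨w, hw⟩) *
      ((Subgroup.inclusion (le_sup_left : K ≤ S) k) * 1)) : α) =
      QuotientGroup.mk ((Subgroup.inclusion (le_sup_left : K ≤ S) k) * 1) := h1
  rw [QuotientGroup.eq, Subgroup.mem_subgroupOf] at h2
  simp only [mul_one, Subgroup.coe_mul, Subgroup.coe_inv, Subgroup.coe_inclusion, mul_inv_rev] at h2
  have h3 := A.inv_mem h2
  simpa [mul_assoc] using h3

/-- An element of order prime to `p - 1` normalising a subgroup of order `p` centralises it. -/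
theorem commute_of_normalises {p : ℕ} (hp : p.Prime) {A : Subgroup G} (hA : Nat.card A = p) {x : G}
    (hx : x ∈ Subgroup.normalizer (A : Set G)) (hco : (orderOf x).Coprime (p - 1)) :
    ∀ a ∈ A, Commute x a := by
  haveI := Fact.mk hp
  haveI : IsCyclic A := isCyclic_of_prime_card hA
  let f : Subgroup.normalizer (A : Set G) →* (ZMod (Nat.card A))ˣ :=
    (IsCyclic.mulAutMulEquiv A).toMonoidHom.comp A.normalizerMonoidHom
  have h1 : orderOf (f ⟨x, hx⟩) ∣ orderOf x := by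
    exact (orderOf_map_dvd f _).trans
      (dvd_of_eq (Subgroup.orderOf_coe (⟨x, hx⟩ : Subgroup.normalizer (A : Set G))).symm)
  have h2 : orderOf (f ⟨x, hx⟩) ∣ p - 1 := by
    haveI : NeZero (Nat.card A) := ⟨Nat.card_pos.ne'⟩
    have := orderOf_dvd_natCard (f ⟨x, hx⟩)
    rw [Nat.card_eq_fintype_card (α := (ZMod (Nat.card A))ˣ), ZMod.card_units_eq_totient] at this
    exact this.trans (dvd_of_eq (by rw [hA, Nat.totient_prime hp]))
  have h3 : f ⟨x, hx⟩ = 1 := orderOf_eq_one_iff.1 (Nat.eq_one_of_dvd_coprimes hco h1 h2)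
  have h4 : A.normalizerMonoidHom ⟨x, hx⟩ = 1 :=
    (MulEquiv.map_eq_one_iff (IsCyclic.mulAutMulEquiv A)).1 h3
  have h5 : (⟨x, hx⟩ : Subgroup.normalizer (A : Set G)) ∈ A.normalizerMonoidHom.ker := h4
  rw [Subgroup.normalizerMonoidHom_ker, Subgroup.mem_subgroupOf] at h5
  intro a ha
  exact ((Subgroup.mem_centralizer_iff.1 h5) a ha).symm

/-- A coset stable under a coprime group contains a fixed point. -/
theorem exists_fixed_in_coset {p q : ℕ} [Fact p.Prime] [Fact q.Prime] (hne : q ≠ p)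
    {A M : Subgroup G} (hA : Nat.card A = p) (hM : IsPGroup q M)
    (hn : A ≤ Subgroup.normalizer (M : Set G)) {x : G} (hx : ∀ a ∈ A, ⁅x⁻¹, a⁆ ∈ M) :
    ∃ m ∈ M, ∀ a ∈ A, Commute a (x * m) := by
  letI act : MulAction A (↥M) :=
    { smul := fun a m => ⟨x⁻¹ * ((a : G) * (x * m) * (a : G)⁻¹), by
        have h2 : (a : G) * m * (a : G)⁻¹ ∈ M := ((Subgroup.mem_normalizer_iff.1 (hn a.2)) _).1 m.2
        have e : x⁻¹ * ((a : G) * (x * m) * (a : G)⁻¹) =
            ⁅x⁻¹, (a : G)⁆ * ((a : G) * m * (a : G)⁻¹) := by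
          rw [commutatorElement_def]; group
        rw [e]; exact M.mul_mem (hx _ a.2) h2⟩
      one_smul := fun m => Subtype.ext (show x⁻¹ * ((1 : G) * (x * m) * (1 : G)⁻¹) = m by group)
      mul_smul := fun a b m => Subtype.ext (by
        show x⁻¹ * ((a * b : G) * (x * m) * (a * b : G)⁻¹) =
          x⁻¹ * ((a : G) * (x * (x⁻¹ * ((b : G) * (x * m) * (b : G)⁻¹))) * (a : G)⁻¹)
        group) }
  have hAp : IsPGroup p A := IsPGroup.of_card (n := 1) (by rw [hA, pow_one])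
  obtain ⟨m, hm⟩ := hAp.nonempty_fixed_point_of_prime_not_dvd_card (↥M) (by
    intro h
    obtain ⟨n, hn'⟩ := IsPGroup.iff_card.1 hM
    rw [hn'] at h
    exact hne ((Nat.prime_dvd_prime_iff_eq (Fact.out : p.Prime) (Fact.out : q.Prime)).1
      ((Fact.out : p.Prime).dvd_of_dvd_pow h)).symm)
  refine ⟨m, m.2, fun a ha => ?_⟩
  have h1 : x⁻¹ * (a * (x * m) * a⁻¹) = m := congrArg Subtype.val (hm ⟨a, ha⟩)
  show a * (x * (m : G)) = x * (m : G) * a
  rw [inv_mul_eq_iff_eq_mul, mul_inv_eq_iff_eq_mul] at h1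
  exact h1

/-- Coprime action: `[Q, A] = [Q, A, A]`. -/
theorem commutator_tight {p q : ℕ} [Fact p.Prime] [Fact q.Prime] (hne : q ≠ p) {A Q : Subgroup G}
    (hA : Nat.card A = p) (hQ : IsPGroup q Q) (hn : A ≤ Subgroup.normalizer (Q : Set G)) :
    Tight q A ⁅Q, A⁆ ∧ ⁅Q, A⁆ ≤ Q := by
  have hle : ⁅Q, A⁆ ≤ Q := by
    rw [Subgroup.commutator_le]
    intro x hx a ha
    have h1 := ((Subgroup.mem_normalizer_iff.1 (hn ha)) x⁻¹).1 (Q.inv_mem hx)
    rw [commutatorElement_def]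
    simpa [mul_assoc] using Q.mul_mem hx h1
  set M := ⁅Q, A⁆ with hM
  have hconj : ∀ x ∈ M, ∀ a ∈ A, a * x * a⁻¹ ∈ M := by
    intro x hx a ha
    have : (M.map (MulAut.conj a).toMonoidHom) ≤ M := by
      rw [hM, Subgroup.map_commutator]
      refine Subgroup.commutator_mono ?_ ?_
      · rintro _ ⟨y, hy, rfl⟩
        exact ((Subgroup.mem_normalizer_iff.1 (hn ha)) y).1 hy
      · rintro _ ⟨y, hy, rfl⟩
        exact A.mul_mem (A.mul_mem ha hy) (A.inv_mem ha)
    exact this ⟨x, hx, rfl⟩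
  have hnM : A ≤ Subgroup.normalizer (M : Set G) := Subgroup.le_normalizer_iff.2 fun a ha x hx =>
    hconj x hx a ha
  refine ⟨⟨hQ.to_le hle, hnM, ?_⟩, hle⟩
  have hQM : ∀ x ∈ Q, ∀ y ∈ M, x * y * x⁻¹ ∈ M := by
    intro x hx y hy
    rw [hM, Subgroup.commutator_def] at hy
    induction hy using Subgroup.closure_induction with
    | mem y hy =>
      obtain ⟨z, hz, a, ha, rfl⟩ := hy
      have e : x * ⁅z, a⁆ * x⁻¹ = ⁅x * z, a⁆ * ⁅x, a⁆⁻¹ := by
        simp only [commutatorElement_def]; group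
      rw [e]
      exact M.mul_mem (Subgroup.commutator_mem_commutator (Q.mul_mem hx hz) ha)
        (M.inv_mem (Subgroup.commutator_mem_commutator hx ha))
    | one => simp
    | mul y z _ _ ihy ihz => simpa [mul_assoc] using M.mul_mem ihy ihz
    | inv y _ ih => simpa [mul_assoc] using M.inv_mem ih
  -- every coset of `M` in `Q` contains a fixed point
  have hfix : ∀ x ∈ Q, ∃ m ∈ M, ∀ a ∈ A, Commute a (x * m) := fun x hx =>
    exists_fixed_in_coset hne hA (hQ.to_le hle) hnM fun a ha =>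
      Subgroup.commutator_mem_commutator (Q.inv_mem hx) ha
  show M ≤ ⁅M, A⁆
  conv_lhs => rw [hM]
  rw [Subgroup.commutator_le]
  intro x hx a ha
  obtain ⟨m, hm, hc⟩ := hfix x hx
  set c := x * m with hcdef
  have hcQ : c ∈ Q := Q.mul_mem hx (hle hm)
  have h2 : c⁻¹ * a * c = a := by rw [mul_assoc, (hc a ha).eq, inv_mul_cancel_left]
  have e : ⁅x, a⁆ = ⁅c * m⁻¹ * c⁻¹, a⁆ := by
    have hx' : x = c * m⁻¹ := by rw [hcdef, mul_inv_cancel_right]
    calc ⁅x, a⁆ = c * m⁻¹ * a * m * c⁻¹ * a⁻¹ := by rw [hx', commutatorElement_def]; group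
      _ = c * m⁻¹ * (c⁻¹ * a * c) * m * c⁻¹ * a⁻¹ := by rw [h2]
      _ = ⁅c * m⁻¹ * c⁻¹, a⁆ := by rw [commutatorElement_def]; group
  rw [e]
  exact Subgroup.commutator_mem_commutator (hQM c hcQ _ (M.inv_mem hm)) ha

end Finite

namespace PairSys

variable [Finite G] {p q : ℕ} {D : Set (Subgroup G)} (h : PairSys p q D)

include h

theorem fact_p : Fact p.Prime := ⟨h.prime_p⟩

theorem fact_q : Fact q.Prime := ⟨h.prime_q⟩

theorem isPGroup {A : Subgroup G} (hA : A ∈ D) : IsPGroup p A :=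
  IsPGroup.of_card (n := 1) (by rw [h.card A hA, pow_one])

theorem ne_bot {A : Subgroup G} (hA : A ∈ D) : A ≠ ⊥ := by
  intro e
  have := h.card A hA
  rw [e, Subgroup.card_bot] at this
  exact h.prime_p.ne_one this.symm

theorem eq_of_le {A B : Subgroup G} (hA : A ∈ D) (hB : B ∈ D) (hle : A ≤ B) : A = B :=
  Subgroup.eq_of_le_of_card_ge hle (by rw [h.card A hA, h.card B hB])

theorem disjoint_qp {K A : Subgroup G} (hK : IsPGroup q K) (hA : IsPGroup p A) : Disjoint K A := by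
  haveI := h.fact_p
  haveI := h.fact_q
  exact IsPGroup.disjoint_of_ne q p h.ne K A hK hA

theorem not_dvd_card {K : Subgroup G} (hK : IsPGroup q K) : ¬ p ∣ Nat.card K := by
  haveI := h.fact_q
  intro hd
  obtain ⟨n, hn⟩ := IsPGroup.iff_card.1 hK
  rw [hn] at hd
  exact h.ne ((Nat.prime_dvd_prime_iff_eq h.prime_p h.prime_q).1 (h.prime_p.dvd_of_dvd_pow hd)).symm

/-- A `p`-group contains at most one member of `D`. -/
theorem no_two_in_pgroup {A B P : Subgroup G} (hA : A ∈ D) (hB : B ∈ D) (hP : IsPGroup p P)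
    (hAP : A ≤ P) (hBP : B ≤ P) : A = B := by
  by_contra hne
  obtain ⟨K, hK, hsup, -⟩ := h.pair A hA B hB hne
  have hKP : K ≤ P := le_trans le_sup_left (hsup ▸ sup_le hAP hBP)
  have hKb : K = ⊥ := (disjoint_self.1 (h.disjoint_qp hK (hP.to_le hKP)))
  rw [hKb, bot_sup_eq] at hsup
  exact hne (h.eq_of_le hB hA (le_sup_right.trans hsup.le)).symm

theorem eq_of_normalises {A B : Subgroup G} (hA : A ∈ D) (hB : B ∈ D)
    (hn : B ≤ Subgroup.normalizer (A : Set G)) : A = B :=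
  h.no_two_in_pgroup hA hB ((h.isPGroup hA).to_sup_of_normal_left' (h.isPGroup hB) hn)
    le_sup_left le_sup_right

theorem eq_of_commute {A B : Subgroup G} (hA : A ∈ D) (hB : B ∈ D)
    (hc : ∀ b ∈ B, ∀ a ∈ A, Commute b a) : A = B :=
  h.eq_of_normalises hA hB fun b hb => conjS_eq_self_iff.1 (conjS_eq_self_of_commute (hc b hb))

/-- A member of `D` inside `K A` is a `K`-conjugate of `A`. -/
theorem exists_conj {A E K : Subgroup G} (_hA : A ∈ D) (hE : E ∈ D) (hK : IsPGroup q K)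
    (hn : A ≤ Subgroup.normalizer (K : Set G)) (hle : E ≤ K ⊔ A) : ∃ k ∈ K, E = conjS k A := by
  haveI := h.fact_p
  obtain ⟨k, hk, hle'⟩ := exists_conj_of_sup hn (h.isPGroup hE) hle (h.not_dvd_card hK)
  exact ⟨k, hk, h.eq_of_le hE (h.conj A _hA k) hle'⟩

/-- The `p`-part of an element of a `q`-extension. -/
theorem inf_bot_of_le {A K : Subgroup G} (hA : A ∈ D) (hK : IsPGroup q K) : K ⊓ A = ⊥ :=
  (h.disjoint_qp hK (h.isPGroup hA)).eq_bot

/-- A `q`-element of `K A` lies in `K`. -/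
theorem qmem_of_mem_sup {A K : Subgroup G} (hA : A ∈ D) (hK : IsPGroup q K)
    (hn : A ≤ Subgroup.normalizer (K : Set G)) {x : G} (hx : x ∈ K ⊔ A) {n : ℕ}
    (hxn : x ^ q ^ n = 1) : x ∈ K := by
  obtain ⟨k, hk, a, ha, rfl⟩ := mem_sup_of_le_normalizer hn hx
  obtain ⟨k', hk', e⟩ := pow_mul_mem hk (hn ha) (q ^ n)
  rw [hxn] at e
  have e3 : a ^ q ^ n ∈ K ⊓ A := ⟨by
    rw [eq_inv_of_mul_eq_one_right e.symm]; exact K.inv_mem hk', A.pow_mem ha _⟩
  rw [h.inf_bot_of_le hA hK, Subgroup.mem_bot] at e3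
  have e5 : a = 1 := by
    have h6 : orderOf a ∣ p := h.card A hA ▸ Subgroup.orderOf_dvd_natCard A ha
    refine orderOf_eq_one_iff.1 (Nat.eq_one_of_dvd_coprimes ?_ (orderOf_dvd_of_pow_eq_one e3) h6)
    exact Nat.Coprime.pow_left _ ((Nat.coprime_primes h.prime_q h.prime_p).2 h.ne)
  rw [e5, mul_one]; exact hk

/-- Elements inducing powers act with equal exponents on the two members of a pair. -/
theorem exponent_eq {A B : Subgroup G} (hA : A ∈ D) (hB : B ∈ D) (hne : A ≠ B) {x : G}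
    (hxA : x ∈ Subgroup.normalizer (A : Set G)) (hxB : x ∈ Subgroup.normalizer (B : Set G))
    {i : ℕ} (hi : ∀ a ∈ A, x * a * x⁻¹ = a ^ i) : ∀ b ∈ B, x * b * x⁻¹ = b ^ i := by
  obtain ⟨K, hK, hsup, hn⟩ := h.pair A hA B hB hne
  have hAn : A ≤ Subgroup.normalizer (K : Set G) := le_sup_left.trans hn
  have hxK : ∀ k ∈ K, x * k * x⁻¹ ∈ K := by
    intro k hk
    have h1 : conjS x (K ⊔ A) = K ⊔ A := by
      rw [← hsup, conjS_sup, conjS_eq_self_iff.2 hxA, conjS_eq_self_iff.2 hxB]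
    have h2 : x * k * x⁻¹ ∈ K ⊔ A := h1 ▸ conj_mem_conjS (le_sup_left (b := A) hk)
    obtain ⟨n, hn'⟩ := hK ⟨k, hk⟩
    have : k ^ q ^ n = 1 := by simpa using congrArg Subtype.val hn'
    exact h.qmem_of_mem_sup hA hK hAn h2 (n := n) (by rw [conj_pow, this]; simp)
  intro b hb
  obtain ⟨k, hk, a, ha, e⟩ := mem_sup_of_le_normalizer hAn (hsup ▸ le_sup_right (a := A) hb)
  obtain ⟨k', hk', e'⟩ := pow_mul_mem hk (hAn ha) i
  rw [← e] at e'
  have e2 : x * b * x⁻¹ * (b ^ i)⁻¹ ∈ K ⊓ B := by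
    refine ⟨?_, B.mul_mem (((Subgroup.mem_normalizer_iff.1 hxB) _).1 hb) (B.inv_mem (B.pow_mem hb i))⟩
    have e3 : x * b * x⁻¹ * (b ^ i)⁻¹ = x * k * x⁻¹ * k'⁻¹ := by
      rw [e', ← hi a ha, e]; group
    rw [e3]
    exact K.mul_mem (hxK k hk) (K.inv_mem hk')
  rw [h.inf_bot_of_le hB hK, Subgroup.mem_bot] at e2
  exact mul_inv_eq_one.1 e2

theorem centralises {A B : Subgroup G} (hA : A ∈ D) (hB : B ∈ D) {x : G}
    (hxB : x ∈ Subgroup.normalizer (B : Set G)) (hc : ∀ a ∈ A, Commute x a) :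
    ∀ b ∈ B, Commute x b := by
  by_cases hne : A = B
  · exact hne ▸ hc
  · intro b hb
    have := h.exponent_eq hA hB hne (conjS_eq_self_iff.1 (conjS_eq_self_of_commute hc)) hxB
      (i := 1) (fun a ha => by rw [(hc a ha).eq, mul_inv_cancel_right, pow_one]) b hb
    rw [pow_one, mul_inv_eq_iff_eq_mul] at this
    exact this

end PairSys

end Cfsg.Agent.OddPairs
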