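import Cfsg.Agent.Lib.OddPairs.Base

/-!
# The fixed group of a pair decides the action on tight subgroups
-/

set_option autoImplicit false
set_option linter.unusedSectionVars false
set_option linter.style.haveILetI false

namespace Cfsg.Agent.OddPairs

open scoped commutatorElement

universe u v

variable {G : Type u} [Group G] [Finite G] {p q : ℕ} {F : Type v} [Group F] {D : Set (Subgroup G)}

/-- Any two `q`-elements commute. -/
def QComm (q : ℕ) (F : Type v) [Group F] : Prop :=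
  ∀ x y : F, (∃ n : ℕ, x ^ q ^ n = 1) → (∃ n : ℕ, y ^ q ^ n = 1) → Commute x y

theorem exists_pow_of_mem {K : Subgroup G} (hK : IsPGroup q K) {x : G} (hx : x ∈ K) :
    ∃ n : ℕ, x ^ q ^ n = 1 := by
  obtain ⟨n, hn⟩ := hK ⟨x, hx⟩
  exact ⟨n, by simpa using congrArg Subtype.val hn⟩

/-- The situation of a pair system, before the facts on tight subgroups are known. -/
structure QPairs (p q : ℕ) (F : Type v) [Group F] (D : Set (Subgroup G)) : Prop
    extends FPairs p F D where
  prime_q : q.Prime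
  odd_q : q ≠ 2
  ne : q ≠ p
  pair : ∀ A ∈ D, ∀ B ∈ D, A ≠ B → ∃ K : Subgroup G, IsPGroup q K ∧ A ⊔ B = K ⊔ A ∧
    A ⊔ B ≤ Subgroup.normalizer (K : Set G)

namespace QPairs

variable (h : QPairs p q F D)

include h

theorem qmem {K A : Subgroup G} (hA : A ∈ D) (hn : A ≤ Subgroup.normalizer (K : Set G)) {x : G}
    (hx : x ∈ K ⊔ A) (hq : ∃ n : ℕ, x ^ q ^ n = 1) : x ∈ K := by
  obtain ⟨n, hn'⟩ := hq
  exact mem_of_coprime_order (h.card A hA) hn hx
    (coprime_order_of_qgroup h.prime_p h.prime_q h.ne hn')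

theorem inf_bot {K A : Subgroup G} (hA : A ∈ D) (hK : IsPGroup q K) : K ⊓ A = ⊥ := by
  haveI := Fact.mk h.prime_p
  haveI := Fact.mk h.prime_q
  exact (IsPGroup.disjoint_of_ne q p h.ne K A hK (h.isPGroup hA)).eq_bot

/-- The pair of `A` and a conjugate under a `q`-group which `A` normalises. -/
theorem pair_in {X A : Subgroup G} (hA : A ∈ D) (hX : IsPGroup q X)
    (hn : A ≤ Subgroup.normalizer (X : Set G)) {x : G} (hx : x ∈ X) (hne : conjS x A ≠ A) :
    ∃ K : Subgroup G, IsPGroup q K ∧ K ≤ X ∧ A ⊔ conjS x A = K ⊔ A ∧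
      A ≤ Subgroup.normalizer (K : Set G) := by
  obtain ⟨K, hK, hsup, hKn⟩ := h.pair A hA _ (h.conj A hA x) hne.symm
  refine ⟨K, hK, fun k hk => h.qmem hA hn ?_ (exists_pow_of_mem hK hk), hsup, le_sup_left.trans hKn⟩
  have h1 : A ⊔ conjS x A ≤ X ⊔ A :=
    sup_le le_sup_right (conjS_le le_sup_right (le_sup_left (b := A) hx))
  exact h1 (hsup.ge (le_sup_left (b := A) hk))

/-- The kernel of a pair is commutative exactly when `QComm` holds. -/
theorem comm_of_qcomm (hP : QComm q F) {A B K : Subgroup G} (hA : A ∈ D) (hB : B ∈ D) (hne : A ≠ B)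
    (hK : IsPGroup q K) (hsup : A ⊔ B = K ⊔ A) : ∀ x ∈ K, ∀ y ∈ K, Commute x y := by
  intro x hx y hy
  obtain ⟨e⟩ := h.iso A hA B hB hne
  have hle : K ≤ A ⊔ B := hsup ▸ le_sup_left
  obtain ⟨n, hn⟩ := exists_pow_of_mem hK hx
  obtain ⟨m, hm⟩ := exists_pow_of_mem hK hy
  have := hP (e ⟨x, hle hx⟩) (e ⟨y, hle hy⟩)
    ⟨n, by rw [← map_pow, MulEquiv.map_eq_one_iff]; exact Subtype.ext hn⟩
    ⟨m, by rw [← map_pow, MulEquiv.map_eq_one_iff]; exact Subtype.ext hm⟩
  exact congrArg Subtype.val (e.injective (by rw [map_mul, map_mul, this.eq]) :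
    (⟨x, hle hx⟩ : ↥(A ⊔ B)) * ⟨y, hle hy⟩ = ⟨y, hle hy⟩ * ⟨x, hle hx⟩)

theorem qcomm_of_comm {A B K : Subgroup G} (hA : A ∈ D) (hB : B ∈ D) (hne : A ≠ B)
    (hsup : A ⊔ B = K ⊔ A) (hn : A ≤ Subgroup.normalizer (K : Set G))
    (hc : ∀ x ∈ K, ∀ y ∈ K, Commute x y) : QComm q F := by
  intro x y hx hy
  obtain ⟨e⟩ := h.iso A hA B hB hne
  have key : ∀ z : F, (∃ n : ℕ, z ^ q ^ n = 1) → ((e.symm z : ↥(A ⊔ B)) : G) ∈ K := by
    rintro z ⟨n, hz⟩
    refine h.qmem hA hn (hsup.le (e.symm z).2) ⟨n, ?_⟩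
    rw [← Subgroup.coe_pow, ← map_pow, hz, map_one, Subgroup.coe_one]
  have := congrArg e (Subtype.ext (hc _ (key x hx) _ (key y hy)).eq :
    e.symm x * e.symm y = e.symm y * e.symm x)
  simpa [map_mul, commute_iff_eq] using this

/-- Without `QComm`, abelian subgroups are centralised. -/
theorem abelian_centralised (hP : ¬ QComm q F) {X A : Subgroup G} (hA : A ∈ D) (hX : IsPGroup q X)
    (hn : A ≤ Subgroup.normalizer (X : Set G)) (hc : ∀ x ∈ X, ∀ y ∈ X, Commute x y) :
    ∀ x ∈ X, ∀ a ∈ A, Commute x a := by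
  intro x hx
  refine commute_of_mem_of_normalises (h.inf_bot hA hX) hn hx (conjS_eq_self_iff.1 ?_)
  by_contra hne
  obtain ⟨K, -, hKX, hsup, hKn⟩ := h.pair_in hA hX hn hx hne
  exact hP (h.qcomm_of_comm hA (h.conj A hA x) (Ne.symm hne) hsup hKn
    fun u hu w hw => hc u (hKX hu) w (hKX hw))

omit h in
theorem normalizes_series {A Q : Subgroup G} (hn : A ≤ Subgroup.normalizer (Q : Set G)) :
    ∀ n : ℕ, A ≤ Subgroup.normalizer ((Q.lowerCentralSeries n : Subgroup G) : Set G) := by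
  intro n
  induction n with
  | zero => exact hn
  | succ n ih =>
    intro a ha
    refine conjS_eq_self_iff.1 ?_
    show (⁅Q.lowerCentralSeries n, Q⁆ : Subgroup G).map (MulAut.conj a).toMonoidHom =
      ⁅Q.lowerCentralSeries n, Q⁆
    rw [Subgroup.map_commutator]
    exact congrArg₂ _ (conjS_eq_self_iff.2 (ih ha)) (conjS_eq_self_iff.2 (hn ha))

/-- Without `QComm`, a tight subgroup has class at most two. -/
theorem class_two (hP : ¬ QComm q F) {A Q : Subgroup G} (hA : A ∈ D) (hT : Tight q A Q) :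
    ⁅⁅Q, Q⁆, Q⁆ = ⊥ := by
  haveI := Fact.mk h.prime_q
  haveI : Group.IsNilpotent Q := hT.1.isNilpotent
  obtain ⟨c, hc⟩ := (Subgroup.isNilpotent_iff_lowerCentralSeries Q).1 ‹Group.IsNilpotent Q›
  have hle : ∀ n, Q.lowerCentralSeries n ≤ Q := Q.lowerCentralSeries_le_self
  suffices key : ∀ m : ℕ, Q.lowerCentralSeries (m + 2) = ⊥ → Q.lowerCentralSeries 2 = ⊥ by
    show Q.lowerCentralSeries 2 = ⊥
    refine key c (le_bot_iff.1 ?_)
    exact hc ▸ Q.lowerCentralSeries_antitone (Nat.le_add_right c 2)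
  intro m
  induction m with
  | zero => exact id
  | succ m ih =>
    intro hm
    refine ih ?_
    set U := Q.lowerCentralSeries (m + 1) with hU
    set W := Q.lowerCentralSeries (m + 2) with hW
    have hUQ : ⁅U, Q⁆ = W := rfl
    have hWQ : ⁅W, Q⁆ = ⊥ := hm
    have hU1 : U ≤ ⁅Q, Q⁆ := Q.lowerCentralSeries_antitone (Nat.le_add_left 1 m)
    have hUc : ⁅U, U⁆ = ⊥ := by
      refine le_bot_iff.1 ((Subgroup.commutator_mono hU1 le_rfl).trans (le_of_eq ?_))
      refine Subgroup.commutator_commutator_eq_bot_of_rotate ?_ ?_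
      · rw [Subgroup.commutator_comm Q U, hUQ, hWQ]
      · rw [hUQ, hWQ]
    have hWc : ⁅W, W⁆ = ⊥ := le_bot_iff.1 ((Subgroup.commutator_mono le_rfl (hle _)).trans hWQ.le)
    have hcent : ∀ n, ⁅Q.lowerCentralSeries n, Q.lowerCentralSeries n⁆ = ⊥ →
        ⁅Q.lowerCentralSeries n, A⁆ = ⊥ := by
      intro n hn
      rw [eq_bot_iff, Subgroup.commutator_le]
      intro x hx a ha
      refine Subgroup.mem_bot.2 (commutatorElement_eq_one_iff_commute.2
        (h.abelian_centralised hP hA (hT.1.to_le (hle n)) (normalizes_series hT.2.1 n) ?_ x hx a ha))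
      intro u hu w hw
      exact commutatorElement_eq_one_iff_commute.1
        (Subgroup.mem_bot.1 (hn.le (Subgroup.commutator_mem_commutator hu hw)))
    have h1 : ⁅⁅Q, A⁆, U⁆ = ⊥ := by
      refine Subgroup.commutator_commutator_eq_bot_of_rotate ?_ ?_
      · rw [Subgroup.commutator_comm A U, hcent _ hUc, Subgroup.commutator_bot_left]
      · rw [hUQ, hcent _ hWc]
    refine le_bot_iff.1 (hUQ ▸ ?_)
    rw [Subgroup.commutator_comm U Q, ← h1]
    exact Subgroup.commutator_mono hT.2.2 le_rfl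

/-- Without `QComm`, the commutators of a tight subgroup are centralised. -/
theorem derived_centralised (hP : ¬ QComm q F) {A Q : Subgroup G} (hA : A ∈ D) (hT : Tight q A Q) :
    ∀ x ∈ (⁅Q, Q⁆ : Subgroup G), ∀ a ∈ A, Commute x a := by
  have hle : ⁅Q, Q⁆ ≤ Q := Subgroup.commutator_le.2 fun x hx y hy =>
    Q.mul_mem (Q.mul_mem (Q.mul_mem hx hy) (Q.inv_mem hx)) (Q.inv_mem hy)
  refine h.abelian_centralised hP hA (hT.1.to_le hle) (normalizes_series hT.2.1 1) ?_
  intro x hx y hy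
  exact commutatorElement_eq_one_iff_commute.1 (Subgroup.mem_bot.1
    ((h.class_two hP hA hT).le (Subgroup.commutator_mem_commutator hx (hle hy))))

theorem cen_of_not_qcomm (hP : ¬ QComm q F) {A Q : Subgroup G} (hA : A ∈ D) (hT : Tight q A Q)
    {z : G} (hz : z ∈ Q) (hza : ∀ a ∈ A, Commute a z) : ∀ x ∈ Q, Commute z x := by
  intro x hx
  set Z := Subgroup.zpowers z with hZ
  have hAZ : ⁅A, Z⁆ = ⊥ := by
    rw [eq_bot_iff, Subgroup.commutator_le]
    rintro a ha w ⟨i, rfl⟩
    exact Subgroup.mem_bot.2 (commutatorElement_eq_one_iff_commute.2 ((hza a ha).zpow_right i))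
  have hZQA : ⁅⁅Z, Q⁆, A⁆ = ⊥ := by
    rw [eq_bot_iff, Subgroup.commutator_le]
    intro u hu a ha
    refine Subgroup.mem_bot.2 (commutatorElement_eq_one_iff_commute.2
      (h.derived_centralised hP hA hT u ?_ a ha))
    exact Subgroup.commutator_mono (Subgroup.zpowers_le.2 hz) le_rfl hu
  have h1 : ⁅⁅Q, A⁆, Z⁆ = ⊥ :=
    Subgroup.commutator_commutator_eq_bot_of_rotate (by rw [hAZ, Subgroup.commutator_bot_left]) hZQA
  have h2 := (Subgroup.commutator_mono hT.2.2 (le_refl Z)).trans h1.le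
    (Subgroup.commutator_mem_commutator hx (Subgroup.mem_zpowers z))
  exact (commutatorElement_eq_one_iff_commute.1 (Subgroup.mem_bot.1 h2)).symm

/-- With `QComm`, fixed points in a tight subgroup are trivial. -/
theorem fixed_of_qcomm (hP : QComm q F) {A Q : Subgroup G} (hA : A ∈ D) (hT : Tight q A Q) :
    ∀ z ∈ Q, (∀ a ∈ A, Commute a z) → z = 1 := by
  haveI := Fact.mk h.prime_p
  haveI := Fact.mk h.prime_q
  have key : ∀ k ∈ Q, ∀ b ∈ A, ∃ T : Subgroup G, T ≤ Q ∧ ⁅k, b⁆ ∈ T ∧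
      A ≤ Subgroup.normalizer (T : Set G) ∧ ∀ w ∈ T, (∀ a ∈ A, Commute a w) → w = 1 := by
    intro k hk b hb
    by_cases hne : conjS k A = A
    · refine ⟨⊥, bot_le, Subgroup.mem_bot.2 (commutatorElement_eq_one_iff_commute.2
        (commute_of_mem_of_normalises (h.inf_bot hA hT.1) hT.2.1 hk
          (conjS_eq_self_iff.1 hne) b hb)), ?_, fun w hw _ => Subgroup.mem_bot.1 hw⟩
      rw [Subgroup.normalizer_eq_top]; exact le_top
    obtain ⟨K, hK, hKQ, hsup, hKn⟩ := h.pair_in hA hT.1 hT.2.1 hk hne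
    have hkb : ⁅k, b⁆ ∈ K := by
      refine h.qmem hA hKn (hsup.le ?_) (exists_pow_of_mem hT.1 ?_)
      · rw [commutatorElement_def]
        exact mul_mem (le_sup_right (a := A) (conj_mem_conjS hb))
          (le_sup_left (b := conjS k A) (A.inv_mem hb))
      · exact (Subgroup.le_normalizer_iff_commutator_le_left.1 hT.2.1)
          (Subgroup.commutator_mem_commutator hk hb)
    obtain ⟨hK', hK'le⟩ := commutator_tight h.ne (h.card A hA) hK hKn
    have hB : conjS k A ≤ ⁅K, A⁆ ⊔ A := by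
      obtain ⟨k₁, hk₁, hle⟩ := exists_conj_of_sup hKn (h.isPGroup (h.conj A hA k))
        (hsup ▸ le_sup_right : conjS k A ≤ K ⊔ A) (fun hd => by
          obtain ⟨n, hn⟩ := IsPGroup.iff_card.1 hK
          rw [hn] at hd
          exact h.ne ((Nat.prime_dvd_prime_iff_eq h.prime_p h.prime_q).1
            (h.prime_p.dvd_of_dvd_pow hd)).symm)
      refine hle.trans ?_
      intro x hx
      rw [mem_conjS] at hx
      have e : x = ⁅k₁, k₁⁻¹ * x * k₁⁆ * (k₁⁻¹ * x * k₁) := by rw [commutatorElement_def]; group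
      rw [e]
      exact mul_mem (le_sup_left (b := A) (Subgroup.commutator_mem_commutator hk₁ hx))
        (le_sup_right (a := ⁅K, A⁆) hx)
    have hKle : K ≤ ⁅K, A⁆ := fun x hx => h.qmem hA hK'.2.1
      ((sup_le le_sup_right hB) (hsup.ge (le_sup_left (b := A) hx))) (exists_pow_of_mem hK hx)
    refine ⟨K, hKQ, hkb, hKn, fun w hw hwa => Subgroup.mem_bot.1 ?_⟩
    haveI : IsMulCommutative K := IsMulCommutative.of_comm fun x y => Subtype.ext
      (h.comm_of_qcomm hP hA (h.conj A hA k) (Ne.symm hne) hK hsup x x.2 y y.2).eq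
    have hcop : (Nat.card A).Coprime (Nat.card K) := by
      obtain ⟨n, hn⟩ := IsPGroup.iff_card.1 hK
      rw [h.card A hA, hn]
      exact ((Nat.coprime_primes h.prime_p h.prime_q).2 h.ne.symm).pow_right n
    rw [← CoprimeAct.centralizer_inf_commutator_eq_bot hKn hcop]
    exact ⟨⟨hw, Subgroup.mem_centralizer_iff.2 fun a ha => (hwa a ha).eq⟩, hKle hw⟩
  refine fixed_trivial h.prime_p h.odd_p (h.card A hA) hT.2.1 hT.2.2 ?_ ?_
  · intro k hk b hb c hc hc1
    obtain ⟨T, hTQ, hw, hTn, hfix⟩ := key k hk b hb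
    have hmem : ∀ v : T, ⁅(v : G), c⁆ ∈ T := fun v =>
      (Subgroup.le_normalizer_iff_commutator_le_left.1 hTn)
        (Subgroup.commutator_mem_commutator v.2 hc)
    have hzc : Subgroup.zpowers c = A := Subgroup.eq_of_le_of_card_ge (Subgroup.zpowers_le.2 hc)
      (by
        rw [Nat.card_zpowers, h.card A hA]
        refine ge_of_eq (orderOf_eq_prime ?_ hc1)
        exact orderOf_dvd_iff_pow_eq_one.1
          ((Subgroup.orderOf_dvd_natCard A hc).trans (dvd_of_eq (h.card A hA))))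
    have hinj : Function.Injective (fun v : T => (⟨⁅(v : G), c⁆, hmem v⟩ : T)) := by
      intro v w e
      have e1 : (v : G) * c * (v : G)⁻¹ = (w : G) * c * (w : G)⁻¹ := by
        have := congrArg Subtype.val e
        simpa [commutatorElement_def] using this
      have e2 : Commute c ((w : G)⁻¹ * v) := by
        show c * ((w : G)⁻¹ * v) = (w : G)⁻¹ * v * c
        calc c * ((w : G)⁻¹ * v) = (w : G)⁻¹ * ((w : G) * c * (w : G)⁻¹) * v := by group
          _ = _ := by rw [← e1]; group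
      refine Subtype.ext (inv_mul_eq_one.1 (hfix _ (T.mul_mem (T.inv_mem w.2) v.2) ?_)).symm
      intro a ha
      rw [← hzc] at ha
      obtain ⟨i, rfl⟩ := ha
      exact e2.zpow_left i
    obtain ⟨v, hv⟩ := Finite.injective_iff_surjective.1 hinj ⟨_, hw⟩
    refine ⟨v, hTQ v.2, ?_⟩
    have := congrArg Subtype.val hv
    simp only [commutatorElement_def] at this ⊢
    rw [← this]; group
  · intro k hk b hb hcom
    obtain ⟨T, -, hw, -, hfix⟩ := key k hk b hb
    exact hfix _ hw hcom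

/-- A pair system arises. -/
theorem pairSys : PairSys p q D where
  prime_p := h.prime_p
  prime_q := h.prime_q
  odd_p := h.odd_p
  odd_q := h.odd_q
  ne := h.ne
  card := h.card
  conj := h.conj
  pair := h.pair
  minimal A hA B hB A' hA' B' hB' hne hne' hle hle' :=
    (Subgroup.eq_of_le_of_card_ge (sup_le hle hle')
      (by rw [h.card_sup hA hB hne, h.card_sup hA' hB' hne'])).ge
  cen A hA Q hT z hz hza x hx := by
    by_cases hP : QComm q F
    · rw [h.fixed_of_qcomm hP hA hT z hz hza]; exact Commute.one_left x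
    · exact h.cen_of_not_qcomm hP hA hT hz hza x hx
  special := by
    by_cases hP : QComm q F
    · exact Or.inr fun A hA Q hT => h.fixed_of_qcomm hP hA hT
    · exact Or.inl fun A hA Q hT x hx y hy a ha =>
        (h.derived_centralised hP hA hT _ (Subgroup.commutator_mem_commutator hx hy) a ha).symm

end QPairs

end Cfsg.Agent.OddPairs
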