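import Cfsg.Agent.Lib.OddPairs.Invol
import Cfsg.Agent.Lib.BrauerSuzuki.ZStar

/-!
# The centraliser of an involution in a critical group
-/

set_option autoImplicit false
set_option linter.unusedSectionVars false
set_option linter.style.haveILetI false

namespace Cfsg.Agent.OddPairs

open scoped commutatorElement

universe u

variable {G : Type u} [Group G] [Finite G] {p q : ℕ} {D : Set (Subgroup G)}

namespace Critical

variable (hc : Critical p q D)

include hc

theorem commute_of_fix {A : Subgroup G} (hA : A ∈ D) {t : G} (ht : t * t = 1)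
    (hn : conjS t A = A) : ∀ a ∈ A, Commute t a :=
  hc.sys.invol_commute hc.gen_top hA ht hn

theorem mem_pts_fix {t : G} (ht : t * t = 1) {B : Subgroup G} :
    B ∈ pts D (Y D t) ↔ B ∈ D ∧ conjS t B = B := by
  constructor
  · rintro ⟨hB, hle⟩
    refine ⟨hB, conjS_eq_self_of_commute fun b hb => ?_⟩
    exact (Subgroup.mem_centralizer_singleton_iff.1 (gen_le _ (hle hb))).symm
  · rintro ⟨hB, hfix⟩
    exact ⟨hB, le_sSup ⟨hB, fun b hb => Subgroup.mem_centralizer_singleton_iff.2
      (hc.commute_of_fix hB ht hfix b hb).symm.eq⟩⟩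

theorem flatAt_fix {A : Subgroup G} {t : G} (_ht : t * t = 1) (ht1 : t ≠ 1)
    (hA : A ∈ pts D (Y D t)) : FlatAt D A (Y D t) where
  mem := hA.1
  gen_eq := gen_gen _
  le := hA.2
  ne_top e := ht1 (Subgroup.mem_bot.1 (hc.center_bot ▸ Subgroup.mem_center_iff.2 fun g =>
    Subgroup.mem_centralizer_singleton_iff.1 (gen_le _ (show g ∈ Y D t by rw [e]; trivial))))

/-- A moved member is joined to a fixed one by an invariant pair. -/
theorem exists_partner {t : G} (ht : t * t = 1) {B : Subgroup G} (hB : B ∈ D)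
    (hmove : conjS t B ≠ B) :
    ∃ C ∈ D, conjS t C = C ∧ C ≠ B ∧ conjS t (C ⊔ B) = C ⊔ B := by
  set B' := conjS t B with hB'
  have hB'D : B' ∈ D := hc.sys.conj B hB t
  have hF : conjS t (B ⊔ B') = B ⊔ B' := by
    rw [conjS_sup, ← hB', hB', ← conjS_mul, ht, conjS_one, sup_comm]
  obtain ⟨C, hC, hCfix⟩ := exists_fixed (hc.sys.odd_pts_sup hB hB'D hmove.symm) ht
    fun E hE => ⟨hc.sys.conj E hE.1 t, (conjS_mono hE.2).trans hF.le⟩
  have hCB : C ≠ B := fun e => hmove (by rw [e] at hCfix; exact hCfix)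
  refine ⟨C, hC.1, hCfix, hCB, ?_⟩
  rw [sup_comm C B, hc.sys.mem_pts_sup hB hB'D hmove.symm hC hCB, hF]

/-- An involution whose fixed members lie in `H` normalises `H`. -/
theorem invol_stab {H : Subgroup G} (hgen : gen D H = H) {s : G} (hs : s * s = 1)
    (hfix : ∀ B ∈ D, conjS s B = B → B ≤ H) : conjS s H = H := by
  have hle : conjS s H ≤ H := by
    conv_lhs => rw [← hgen]
    rw [gen, conjS, sSup_eq_iSup', Subgroup.map_iSup]
    refine iSup_le fun B => ?_
    show conjS s B.1 ≤ H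
    by_cases hm : conjS s B.1 = B.1
    · rw [hm]; exact B.2.2
    · obtain ⟨C, hC, hCfix, -, hF⟩ := hc.exists_partner hs B.2.1 hm
      exact (conjS_mono le_sup_right).trans (hF.le.trans (sup_le (hfix C hC hCfix) B.2.2))
  exact Subgroup.eq_of_le_of_card_ge hle (card_conjS s H).ge

theorem flatAt_pair {A B : Subgroup G} (hA : A ∈ D) (hB : B ∈ D) (hne : A ≠ B) :
    FlatAt D A (A ⊔ B) where
  mem := hA
  gen_eq := le_antisymm (gen_le _)
    (sup_le (le_sSup ⟨hA, le_sup_left⟩) (le_sSup ⟨hB, le_sup_right⟩))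
  le := le_sup_left
  ne_top e := by
    obtain ⟨K, hK, hsup, hn⟩ := hc.sys.pair A hA B hB hne
    refine hc.even ?_
    haveI := hc.sys.fact_q
    obtain ⟨n, hn'⟩ := IsPGroup.iff_card.1 hK
    haveI hKn : K.Normal := Subgroup.normalizer_eq_top_iff.1 (top_le_iff.1 (e ▸ hn))
    have h1 : Nat.card G ∣ Nat.card K * Nat.card A := by
      rw [← K.card_mul_index]
      refine mul_dvd_mul_left _ ?_
      have h2 : A.map (QuotientGroup.mk' K) = ⊤ := by
        have := congrArg (Subgroup.map (QuotientGroup.mk' K)) (hsup.symm.trans e)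
        rwa [Subgroup.map_sup, QuotientGroup.map_mk'_self, bot_sup_eq,
          Subgroup.map_top_of_surjective _ (QuotientGroup.mk'_surjective K)] at this
      rw [Subgroup.index_eq_card, ← Subgroup.card_top (G := G ⧸ K), ← h2]
      exact Subgroup.card_map_dvd _ _
    exact Odd.of_dvd_nat (by
      rw [hn', hc.sys.card A hA]
      exact ((hc.sys.prime_q.odd_of_ne_two hc.sys.odd_q).pow).mul
        (hc.sys.prime_p.odd_of_ne_two hc.sys.odd_p)) h1

/-- `c` fixes all members fixed by `t`. -/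
theorem fix_le_Y {A B : Subgroup G} {t c : G} (ht : t * t = 1) (ht1 : t ≠ 1)
    (hA : A ∈ pts D (Y D t)) (hB : B ∈ pts D (Y D t)) (hne : B ≠ A) (hg : Good q D A c)
    (hct : Commute c t) : Y D t ≤ Y D c := by
  classical
  haveI := hc.sys.fact_q
  have hFX := hc.flatAt_fix ht ht1 hA
  have hcX : c ∈ Subgroup.normalizer ((Y D t : Subgroup G) : Set G) :=
    mem_normalizer_Y_of_commute hc.sys hct
  have hS : ∀ E ∈ pts D (Y D t), conjS c E ∈ pts D (Y D t) := fun E hE =>
    ⟨hc.sys.conj E hE.1 c, (conjS_mono hE.2).trans (conjS_eq_self_iff.2 hcX).le⟩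
  haveI : Fintype (pts D (Y D t)) := Fintype.ofFinite _
  let f : pts D (Y D t) → pts D (Y D t) := fun E => ⟨conjS c E.1, hS _ E.2⟩
  have hfinj : Function.Injective f := fun E E' e => by
    have h1 : conjS c E.1 = conjS c E'.1 := congrArg Subtype.val e
    have h2 := congrArg (conjS c⁻¹) h1
    rw [← conjS_mul, ← conjS_mul, inv_mul_cancel, conjS_one, conjS_one] at h2
    exact Subtype.ext h2
  let σ : Equiv.Perm (pts D (Y D t)) := Equiv.ofBijective f (Finite.injective_iff_bijective.1 hfinj)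
  have hpow : ∀ (m : ℕ) (E : pts D (Y D t)), ((σ ^ m) E).1 = conjS (c ^ m) E.1 := by
    intro m
    induction m with
    | zero => intro E; simp
    | succ m ih =>
      intro E
      rw [pow_succ', Equiv.Perm.mul_apply, pow_succ', conjS_mul, ← ih E]
      rfl
  obtain ⟨ht', -, -⟩ := hc.flat (hc.flatAt_Y hg)
  obtain ⟨n, hn⟩ := ht'.1 ⟨c, hg.mem_qPart⟩
  have hn' : c ^ q ^ n = 1 := by simpa using congrArg Subtype.val hn
  have hσ : σ ^ q ^ n = 1 := Equiv.ext fun E => Subtype.ext (by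
    rw [hpow, hn', conjS_one]; rfl)
  have hq : q ∣ Fintype.card (pts D (Y D t)) := by
    obtain ⟨htX, -, -⟩ := hc.flat hFX
    have e : pts D (Y D t) = (fun k => conjS k A) '' (qPart q (Y D t) : Set G) := by
      ext E
      constructor
      · intro hE
        obtain ⟨k, hk, rfl⟩ := hc.exists_conj_mem hFX hE
        exact ⟨k, hk, rfl⟩
      · rintro ⟨k, hk, rfl⟩
        exact ⟨hc.sys.conj A hA.1 k, conjS_le hA.2 (qPart_le _ hk)⟩
    rw [← Nat.card_eq_fintype_card, Nat.card_coe_set_eq]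
    have hdvd : (pts D (Y D t)).ncard ∣ Nat.card (qPart q (Y D t)) := by
      rw [e, ncard_image_conjS]; exact Subgroup.index_dvd_card _
    obtain ⟨m, hm⟩ := IsPGroup.iff_card.1 htX.1
    rw [hm] at hdvd
    obtain ⟨i, -, hi⟩ := (Nat.dvd_prime_pow hc.sys.prime_q).1 hdvd
    rcases Nat.eq_zero_or_pos i with rfl | hi0
    · exfalso
      obtain ⟨x, hx⟩ := Set.ncard_eq_one.1 (hi.trans (pow_zero q))
      exact hne ((Set.mem_singleton_iff.1 (hx ▸ hB)).trans (Set.mem_singleton_iff.1 (hx ▸ hA)).symm)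
    · rw [hi]; exact dvd_pow_self q hi0.ne'
  have hfA : σ ⟨A, hA⟩ = ⟨A, hA⟩ := Subtype.ext
    (conjS_eq_self_of_commute fun a ha => (hg.comm a ha).symm)
  obtain ⟨E, hE, hEA⟩ := Equiv.Perm.exists_fixed_point_of_prime' hq hσ hfA
  have hEfix : conjS c E.1 = E.1 := congrArg Subtype.val hE
  have hEc := hc.sys.centralises hA.1 E.2.1 (conjS_eq_self_iff.1 hEfix)
    fun a ha => (hg.comm a ha).symm
  exact hc.no_bad hg hFX hcX E.2
    ⟨E.2.1, le_sSup ⟨E.2.1, fun a ha => Subgroup.mem_centralizer_singleton_iff.2 (hEc a ha).symm.eq⟩⟩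
    fun e => hEA (Subtype.ext e)

/-- The central elements attached to `t` all give the same subgroup. -/
theorem Y_unique {A B : Subgroup G} {t c d : G} (ht : t * t = 1) (ht1 : t ≠ 1)
    (hA : A ∈ pts D (Y D t)) (hB : B ∈ pts D (Y D t)) (hne : B ≠ A)
    (hgc : Good q D A c) (hct : Commute c t) (hgd : Good q D A d) (hdt : Commute d t) :
    Y D c = Y D d := by
  haveI := hc.sys.fact_q
  have htinv : t⁻¹ = t := inv_eq_of_mul_eq_one_right ht
  -- with an inverted element the two subgroups are equal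
  have step : ∀ c d : G, Good q D A c → Commute c t → Good q D A d → Commute d t →
      (∃ θ ∈ theta q A (Y D c), θ ≠ 1 ∧ t * θ * t⁻¹ = θ⁻¹) → Y D c = Y D d := by
    rintro c d hgc hct hgd hdt ⟨θ, hθ, hθ1, hθt⟩
    have hXd := hc.fix_le_Y ht ht1 hA hB hne hgd hdt
    have hXc := hc.fix_le_Y ht ht1 hA hB hne hgc hct
    have hFd := hc.flatAt_Y hgd
    have hθY := hc.Y_eq hgc hθ hθ1
    obtain ⟨-, hgθ⟩ := hc.le_Y (hc.flatAt_Y hgc) hθ hθ1
    have htd : conjS t (Y D d) = Y D d :=
      conjS_eq_self_iff.2 (mem_normalizer_Y_of_commute hc.sys hdt.symm)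
    set s := θ * t * θ⁻¹ with hs
    have hs2 : s * s = 1 := by
      rw [hs, show θ * t * θ⁻¹ * (θ * t * θ⁻¹) = θ * (t * t) * θ⁻¹ by group, ht]; group
    have hsd : conjS s (Y D d) = Y D d := by
      refine hc.invol_stab hFd.gen_eq hs2 fun E hE hfix => ?_
      have h1 : conjS t (conjS θ⁻¹ E) = conjS θ⁻¹ E := by
        conv_rhs => rw [← hfix]
        rw [← conjS_mul, ← conjS_mul, hs]
        congr 1
        group
      have h2 := (hc.mem_pts_fix ht).2 ⟨hc.sys.conj E hE θ⁻¹, h1⟩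
      have h3 : conjS θ (conjS θ⁻¹ E) = conjS θ⁻¹ E := conjS_eq_self_of_commute fun a ha =>
        hc.theta_comm (hc.flatAt_Y hgc) hθ a (hXc (h2.2 ha))
      rw [← conjS_mul, mul_inv_cancel, conjS_one] at h3
      rw [h3]
      exact h2.2.trans hXd
    have hθ2 : conjS (θ ^ 2) (Y D d) = Y D d := by
      have : θ ^ 2 = s * t := by
        rw [hs, mul_assoc, mul_assoc]
        rw [show θ⁻¹ * t = t * θ by rw [← hθt, inv_mul_cancel_right]]
        rw [← mul_assoc t t θ, ht, one_mul, pow_two]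
      rw [this, conjS_mul, htd, hsd]
    have hθn : θ ∈ Subgroup.normalizer ((Y D d : Subgroup G) : Set G) := by
      obtain ⟨m, hm⟩ := (hc.flat (hc.flatAt_Y hgc)).1.1 ⟨θ, (mem_theta.1 hθ).1⟩
      have hm' : θ ^ q ^ m = 1 := by simpa using congrArg Subtype.val hm
      obtain ⟨j, hj⟩ := (hc.sys.prime_q.odd_of_ne_two hc.sys.odd_q).pow (n := m)
      have : θ = (θ ^ 2) ^ (j + 1) := by
        rw [← pow_mul, show 2 * (j + 1) = q ^ m + 1 by omega, pow_succ, hm', one_mul]
      rw [this]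
      exact pow_mem (conjS_eq_self_iff.1 hθ2) _
    have hle : Y D d ≤ Y D c := hθY ▸ hc.no_bad hgθ hFd hθn
      (B := B) ⟨hB.1, hB.2.trans hXd⟩ ⟨hB.1, hθY.symm ▸ hB.2.trans hXc⟩ hne
    exact le_antisymm (hc.le_Y (hc.flatAt_Y hgc)
      (mem_theta.2 ⟨qPart_mono hle hgd.mem_qPart, hgd.comm⟩) hgd.ne_one).1 hle
  by_cases h1 : ∃ θ ∈ theta q A (Y D c), θ ≠ 1 ∧ t * θ * t⁻¹ = θ⁻¹
  · exact step c d hgc hct hgd hdt h1
  by_cases h2 : ∃ θ ∈ theta q A (Y D d), θ ≠ 1 ∧ t * θ * t⁻¹ = θ⁻¹
  · exact (step d c hgd hdt hgc hct h2).symm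
  -- both are centralised by `t`
  have hFX := hc.flatAt_fix ht ht1 hA
  obtain ⟨htX, -, hsupX⟩ := hc.flat hFX
  set QX := qPart q (Y D t) with hQX
  set W := gen D (Subgroup.normalizer (QX : Set G)) with hW
  have hFW : FlatAt D A W := by
    refine ⟨hA.1, gen_gen _, fun e => hne ?_, le_sSup ⟨hA.1, htX.2.1⟩⟩
    have h3 : Subgroup.normalizer (QX : Set G) = ⊤ :=
      top_le_iff.1 (e ▸ gen_le (D := D) (Subgroup.normalizer (QX : Set G)))
    rw [hc.no_q QX (Subgroup.normalizer_eq_top_iff.1 h3) htX.1, bot_sup_eq] at hsupX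
    exact hc.sys.eq_of_le hB.1 hA.1 (hB.2.trans hsupX.ge)
  have main : ∀ c : G, Good q D A c → Commute c t →
      ¬ (∃ θ ∈ theta q A (Y D c), θ ≠ 1 ∧ t * θ * t⁻¹ = θ⁻¹) → Y D c = W := by
    intro c hgc hct hno
    have hFY := hc.flatAt_Y hgc
    obtain ⟨htY, -, -⟩ := hc.flat hFY
    have hXc := hc.fix_le_Y ht ht1 hA hB hne hgc hct
    have htYn : conjS t (Y D c) = Y D c :=
      conjS_eq_self_iff.2 (mem_normalizer_Y_of_commute hc.sys hct.symm)
    have htA : ∀ a ∈ A, Commute t a := hc.commute_of_fix hA.1 ht ((hc.mem_pts_fix ht).1 hA).2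
    have htQ : ∀ y ∈ qPart q (Y D c), t * y * t⁻¹ ∈ qPart q (Y D c) := by
      intro y hy
      have h3 := conjS_qPart (q := q) t (Y D c)
      rw [htYn] at h3
      rw [← h3]
      exact conj_mem_conjS hy
    -- every central element is fixed
    have hfixθ : ∀ θ ∈ theta q A (Y D c), t * θ * t⁻¹ = θ := by
      intro θ hθ
      set φ := θ⁻¹ * (t * θ * t⁻¹) with hφ
      have hφ' : t * φ * t⁻¹ = φ⁻¹ := by
        calc t * φ * t⁻¹ = t * θ⁻¹ * t⁻¹ * (t * t) * θ * (t * t)⁻¹ := by rw [hφ]; group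
          _ = φ⁻¹ := by rw [ht, hφ]; group
      have hmem : φ ∈ theta q A (Y D c) := by
        refine mem_theta.2 ⟨mul_mem (inv_mem (mem_theta.1 hθ).1) (htQ θ (mem_theta.1 hθ).1),
          fun a ha => ?_⟩
        have h4 := (htA a ha).symm
        have h5 := (mem_theta.1 hθ).2 a ha
        exact h5.inv_right.mul_right ((h4.mul_right h5).mul_right h4.inv_right)
      by_contra hne'
      refine hno ⟨φ, hmem, fun e => hne' ?_, hφ'⟩
      exact (inv_mul_eq_one.1 e).symm
    have hle1 : Y D c ≤ W := by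
      rw [← hFY.gen_eq]
      refine sSup_le fun E hE => le_sSup ⟨hE.1, ?_⟩
      obtain ⟨y, hy, rfl⟩ := hc.exists_conj_mem hFY hE
      refine conjS_le htX.2.1 (Subgroup.mem_normalizer_iff.2 ?_)
      have key : ∀ y ∈ qPart q (Y D c), ∀ e ∈ QX, y * e * y⁻¹ ∈ QX := by
        intro y hy e he
        have heY : e ∈ qPart q (Y D c) := qPart_mono hXc he
        have het : t * e * t⁻¹ = e := by
          rw [(Subgroup.mem_centralizer_singleton_iff.1 (gen_le _ (qPart_le _ he))).symm,
            mul_inv_cancel_right]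
        set s := ⁅y, e⁆ with hs
        have hsθ : s ∈ theta q A (Y D c) := hc.commutator_mem_theta hFY hgc hy heY
        set y' := t * y * t⁻¹ with hy'
        have hy'Q : y' ∈ qPart q (Y D c) := htQ y hy
        have h4 : ⁅y', e⁆ = s := by
          calc ⁅y', e⁆ = ⁅t * y * t⁻¹, t * e * t⁻¹⁆ := by rw [het]
            _ = t * s * t⁻¹ := by simp only [hs, commutatorElement_def]; group
            _ = s := hfixθ s hsθ
        set m := y * y' with hm
        have hmQ : m ∈ qPart q (Y D c) := mul_mem hy hy'Q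
        have hsy : y * s * y⁻¹ = s := by
          rw [← (hc.theta_comm hFY hsθ y (qPart_le _ hy)).eq, mul_inv_cancel_right]
        have hm2 : ⁅m, e⁆ = s * s := by
          calc ⁅m, e⁆ = y * ⁅y', e⁆ * y⁻¹ * ⁅y, e⁆ := by
                simp only [hm, commutatorElement_def]; group
            _ = s * s := by rw [h4, hsy]
        -- `m` is fixed
        set φ := ⁅y', y⁆ with hφ
        have hφθ : φ ∈ theta q A (Y D c) := hc.commutator_mem_theta hFY hgc hy'Q hy
        have hty' : t * y' * t⁻¹ = y := by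
          calc t * y' * t⁻¹ = (t * t) * y * (t * t)⁻¹ := by rw [hy']; group
            _ = y := by rw [ht]; group
        have hφ1 : φ = 1 := by
          have h5 := hfixθ φ hφθ
          have h6 : t * φ * t⁻¹ = φ⁻¹ := by
            calc t * φ * t⁻¹ = ⁅t * y' * t⁻¹, t * y * t⁻¹⁆ := by
                  simp only [hφ, commutatorElement_def]; group
              _ = φ⁻¹ := by rw [hty', ← hy', hφ, commutatorElement_inv]
          rw [h5] at h6
          obtain ⟨n, hn⟩ := htY.1 ⟨φ, (mem_theta.1 hφθ).1⟩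
          have hn' : φ ^ q ^ n = 1 := by simpa using congrArg Subtype.val hn
          refine orderOf_eq_one_iff.1 (Nat.eq_one_of_dvd_coprimes ?_
            (orderOf_dvd_of_pow_eq_one hn') (orderOf_dvd_of_pow_eq_one (n := 2) ?_))
          · exact Nat.Coprime.pow_left _ ((Nat.coprime_primes hc.sys.prime_q Nat.prime_two).2 hc.sys.odd_q)
          · rw [pow_two]; nth_rw 2 [h6]; exact mul_inv_cancel φ
        have hmt : t * m * t⁻¹ = m := by
          calc t * m * t⁻¹ = (t * y * t⁻¹) * (t * y' * t⁻¹) := by rw [hm]; group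
            _ = y' * y := by rw [← hy', hty']
            _ = φ * m := by rw [hφ, hm, commutatorElement_def]; group
            _ = m := by rw [hφ1, one_mul]
        have hmX : conjS m A ∈ pts D (Y D t) := (hc.mem_pts_fix ht).2 ⟨hc.sys.conj A hA.1 m, by
          rw [← conjS_mul, show t * m = m * t from mul_inv_eq_iff_eq_mul.1 hmt, conjS_mul,
            ((hc.mem_pts_fix ht).1 hA).2]⟩
        obtain ⟨e', he', hee⟩ := hc.exists_conj_mem hFX hmX
        have h7 : conjS (e'⁻¹ * m) A = A := by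
          rw [conjS_mul, hee, ← conjS_mul, inv_mul_cancel, conjS_one]
        have h8 := hc.mem_theta_of_conj hFY (mul_mem (inv_mem (qPart_mono hXc he')) hmQ) h7
        set z := e'⁻¹ * m with hz
        have hme : m = e' * z := by rw [hz, mul_inv_cancel_left]
        have h9 : ⁅m, e⁆ ∈ QX := by
          have h10 := (hc.theta_comm hFY h8 e (qPart_le _ heY)).eq
          have : ⁅m, e⁆ = ⁅e', e⁆ := by
            calc ⁅m, e⁆ = e' * (z * e) * z⁻¹ * e'⁻¹ * e⁻¹ := by
                  rw [hme, commutatorElement_def]; group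
              _ = ⁅e', e⁆ := by rw [h10, commutatorElement_def]; group
          rw [this, commutatorElement_def]
          exact mul_mem (mul_mem (mul_mem he' he) (inv_mem he')) (inv_mem he)
        rw [hm2] at h9
        obtain ⟨n, hn⟩ := htY.1 ⟨s, (mem_theta.1 hsθ).1⟩
        have hn' : s ^ q ^ n = 1 := by simpa using congrArg Subtype.val hn
        obtain ⟨j, hj⟩ := (hc.sys.prime_q.odd_of_ne_two hc.sys.odd_q).pow (n := n)
        have hsX : s ∈ QX := by
          have : s = (s * s) ^ (j + 1) := by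
            rw [← pow_two, ← pow_mul, show 2 * (j + 1) = q ^ n + 1 by omega, pow_succ, hn', one_mul]
          rw [this]; exact pow_mem h9 _
        rw [show y * e * y⁻¹ = s * e by rw [hs, commutatorElement_def]; group]
        exact mul_mem hsX he
      intro e
      refine ⟨key y hy e, fun he => ?_⟩
      simpa [mul_assoc] using key y⁻¹ (inv_mem hy) _ he
    exact le_antisymm hle1 (hc.le_Y hFW
      (mem_theta.2 ⟨qPart_mono hle1 hgc.mem_qPart, hgc.comm⟩) hgc.ne_one).1
  rw [main c hgc hct h1, main d hgd hdt h2]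

/-- No normal subgroup of odd order. -/
theorem pPrimeCore_two : Cfsg.pPrimeCore 2 G = ⊥ := by
  by_contra hne
  have hodd : Odd (Nat.card (Cfsg.pPrimeCore 2 G)) := by
    rw [← Nat.not_even_iff_odd, even_iff_two_dvd]
    exact fun h' => Nat.prime_two.coprime_iff_not_dvd.1
      (Cfsg.Agent.FittingCores.pPrimeCore_coprime (G := G) 2).symm h'
  obtain ⟨r, hr, R, hRn, hR0, hRr, -⟩ := exists_normal_prime_le
    (Cfsg.Agent.FittingCores.pPrimeCore_normal 2) hne (Cfsg.Agent.OddChar.oddSolvable _ hodd)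
  haveI := Fact.mk hr
  rcases eq_or_ne r q with rfl | hrq
  · exact hR0 (hc.no_q R hRn hRr)
  · exact hR0 (le_bot_iff.1 (hc.center_bot ▸ fun x hx => mem_center_of_commute hc.gen_top
      fun B hB b hb => hc.sys.normal_prime_central hrq hRn hRr hB x hx b hb))

/-- An involution with a single fixed member has no central element. -/
theorem single {A : Subgroup G} {t : G} (ht : t * t = 1) (ht1 : t ≠ 1)
    (hA : A ∈ pts D (Y D t)) (hsingle : ∀ B ∈ pts D (Y D t), B = A) {c : G} (hg : Good q D A c) :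
    False := by
  haveI := hc.sys.fact_q
  have hspec := hc.special hg
  -- any involution fixing only `A` inverts every pair modulo the centre
  have hinv : ∀ s : G, s * s = 1 → conjS s A = A → (∀ E ∈ D, conjS s E = E → E = A) →
      ∀ B ∈ D, B ≠ A → ∀ k ∈ qPart q (A ⊔ B),
        ∃ θ ∈ theta q A (A ⊔ B), s * k * s⁻¹ = k⁻¹ * θ := by
    intro s hs hsA hone B hB hBA k hk
    have hmove : conjS s B ≠ B := fun e => hBA (hone B hB e)
    obtain ⟨C, hC, hCfix, -, hF⟩ := hc.exists_partner hs hB hmove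
    rw [hone C hC hCfix] at hF
    have hFF := hc.flatAt_pair hA.1 hB hBA.symm
    obtain ⟨htF, -, -⟩ := hc.flat hFF
    have hsQ : ∀ y ∈ qPart q (A ⊔ B), s * y * s⁻¹ ∈ qPart q (A ⊔ B) := by
      intro y hy
      have h3 := conjS_qPart (q := q) s (A ⊔ B)
      rw [hF] at h3
      rw [← h3]
      exact conj_mem_conjS hy
    have hcm : ∀ x ∈ qPart q (A ⊔ B), ∀ y ∈ qPart q (A ⊔ B), ⁅x, y⁆ ∈ theta q A (A ⊔ B) :=
      fun x hx y hy => hc.commutator_mem_theta hFF hg hx hy
    set k' := s * k * s⁻¹ with hk'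
    have hk'Q := hsQ k hk
    have hsk' : s * k' * s⁻¹ = k := by
      calc s * k' * s⁻¹ = (s * s) * k * (s * s)⁻¹ := by rw [hk']; group
        _ = k := by rw [hs]; group
    set m := k * k' with hm
    set φ := ⁅k', k⁆ with hφ
    have hφθ := hcm k' hk'Q k hk
    have hsm : s * m * s⁻¹ = φ * m := by
      calc s * m * s⁻¹ = (s * k * s⁻¹) * (s * k' * s⁻¹) := by rw [hm]; group
        _ = k' * k := by rw [← hk', hsk']
        _ = φ * m := by rw [hφ, hm, commutatorElement_def]; group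
    have hsφ : s * φ * s⁻¹ = φ⁻¹ := by
      calc s * φ * s⁻¹ = ⁅s * k' * s⁻¹, s * k * s⁻¹⁆ := by
            simp only [hφ, commutatorElement_def]; group
        _ = φ⁻¹ := by rw [hsk', ← hk', hφ, commutatorElement_inv]
    obtain ⟨n, hn⟩ := htF.1 ⟨φ, (mem_theta.1 hφθ).1⟩
    have hn' : φ ^ q ^ n = 1 := by simpa using congrArg Subtype.val hn
    obtain ⟨j, hj⟩ := (hc.sys.prime_q.odd_of_ne_two hc.sys.odd_q).pow (n := n)
    set r := φ ^ (j + 1) with hr
    have hrr : r * r = φ := by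
      rw [hr, ← pow_add, show j + 1 + (j + 1) = q ^ n + 1 by omega, pow_succ, hn', one_mul]
    have hsr : s * r * s⁻¹ = r⁻¹ := by rw [hr, ← conj_pow, hsφ, inv_pow]
    have hrθ : r ∈ theta q A (A ⊔ B) := pow_mem hφθ _
    have hfix : s * (r * m) * s⁻¹ = r * m := by
      calc s * (r * m) * s⁻¹ = (s * r * s⁻¹) * (s * m * s⁻¹) := by group
        _ = r⁻¹ * (r * r * m) := by rw [hsr, hsm, hrr]
        _ = r * m := by group
    have hrm : conjS (r * m) A = A := by
      refine hone _ (hc.sys.conj A hA.1 _) ?_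
      rw [← conjS_mul, show s * (r * m) = r * m * s from mul_inv_eq_iff_eq_mul.1 hfix, conjS_mul, hsA]
    have hrmθ := hc.mem_theta_of_conj hFF (mul_mem (mem_theta.1 hrθ).1 (mul_mem hk hk'Q)) hrm
    refine ⟨m, by simpa using mul_mem (inv_mem hrθ) hrmθ, ?_⟩
    rw [hm, inv_mul_cancel_left]
  have htA : conjS t A = A := ((hc.mem_pts_fix ht).1 hA).2
  have hiso : Cfsg.IsIsolated t := by
    intro g hgc
    set u := g * t * g⁻¹ with hu
    have hu2 : u * u = 1 := by
      rw [hu, show g * t * g⁻¹ * (g * t * g⁻¹) = g * (t * t) * g⁻¹ by group, ht]; group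
    have huA : conjS u A = A := by
      refine hsingle _ ((hc.mem_pts_fix ht).2 ⟨hc.sys.conj A hA.1 u, ?_⟩)
      rw [← conjS_mul, hgc.eq, conjS_mul, htA]
    have huone : ∀ E ∈ D, conjS u E = E → E = A := by
      intro E hE hfix
      have h1 : conjS t (conjS g⁻¹ E) = conjS g⁻¹ E := by
        conv_rhs => rw [← hfix]
        rw [← conjS_mul, ← conjS_mul, hu]; congr 1; group
      have h2 := hsingle _ ((hc.mem_pts_fix ht).2 ⟨hc.sys.conj E hE g⁻¹, h1⟩)
      have h1' : conjS t (conjS g⁻¹ A) = conjS g⁻¹ A := by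
        conv_rhs => rw [← huA]
        rw [← conjS_mul, ← conjS_mul, hu]; congr 1; group
      have h3 := hsingle _ ((hc.mem_pts_fix ht).2 ⟨hc.sys.conj A hA.1 g⁻¹, h1'⟩)
      have h4 := congrArg (conjS g) (h2.trans h3.symm)
      rwa [← conjS_mul, ← conjS_mul, mul_inv_cancel, conjS_one, conjS_one] at h4
    have htu : ∀ B ∈ D, conjS (u * t) B = B := by
      intro B hB
      by_cases hBA : B = A
      · rw [hBA, conjS_mul, htA, huA]
      have hFF := hc.flatAt_pair hA.1 hB (Ne.symm hBA)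
      obtain ⟨k, hk, rfl⟩ := hc.exists_conj_mem hFF ⟨hB, le_sup_right⟩
      obtain ⟨θ, hθ, e1⟩ := hinv t ht htA
        (fun E hE e => hsingle E ((hc.mem_pts_fix ht).2 ⟨hE, e⟩)) _ hB hBA k hk
      obtain ⟨θ', hθ', e2⟩ := hinv u hu2 huA huone _ hB hBA k hk
      rw [← conjS_mul, show u * t * k = (u * (t * k * t⁻¹) * u⁻¹) * (u * t) by group, e1,
        show u * (k⁻¹ * θ) * u⁻¹ = (u * k * u⁻¹)⁻¹ * (u * θ * u⁻¹) by group, e2, conjS_mul,
        conjS_mul (g := u) (k := t), htA, huA, mul_inv_rev, inv_inv, conjS_mul,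
        conjS_eq_self_of_commute (g := u * θ * u⁻¹) (fun a ha => ?_), conjS_mul,
        ← conjS_mul θ'⁻¹ k, show θ'⁻¹ * k = k * θ'⁻¹ from
          ((hc.theta_comm hFF hθ' k (qPart_le _ hk)).inv_left).eq, conjS_mul,
        conjS_eq_self_of_commute (g := θ'⁻¹) fun a ha => ((mem_theta.1 hθ').2 a ha).symm.inv_left]
      have h1 := (hc.commute_of_fix hA.1 hu2 huA a ha)
      exact (h1.mul_left ((mem_theta.1 hθ).2 a ha).symm).mul_left h1.inv_left
    have hcomm : ∀ a ∈ A, Commute (u * t) a := fun a ha =>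
      (hc.commute_of_fix hA.1 hu2 huA a ha).mul_left (hc.commute_of_fix hA.1 ht htA a ha)
    have hcen : u * t ∈ Subgroup.center G := mem_center_of_commute hc.gen_top fun B hB =>
      hc.sys.centralises hA.1 hB (conjS_eq_self_iff.1 (htu B hB)) hcomm
    rw [hc.center_bot, Subgroup.mem_bot] at hcen
    rw [eq_inv_of_mul_eq_one_left hcen, inv_eq_of_mul_eq_one_right ht]
  have hord : orderOf t = 2 := orderOf_eq_prime (by rw [pow_two, ht]) ht1
  have h1 := Cfsg.Agent.BrauerSuzuki.zStar G t hord hiso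
  refine ht1 (Subgroup.mem_bot.1 (hc.center_bot ▸ Subgroup.mem_center_iff.2 fun g => ?_))
  have h2 := h1 g
  rw [hc.pPrimeCore_two, Subgroup.mem_bot, mul_inv_eq_one, mul_inv_eq_iff_eq_mul] at h2
  exact h2

/-- Central elements of pairs through two fixed members give the same subgroup. -/
theorem good_base {A A' : Subgroup G} {t c : G} (ht : t * t = 1) (ht1 : t ≠ 1)
    (hA : A ∈ pts D (Y D t)) (hA' : A' ∈ pts D (Y D t)) (hg : Good q D A' c)
    (hct : Commute c t) : Good q D A c := by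
  refine ⟨hA.1, hg.ne_one, ?_, hg.mem_qPart⟩
  by_cases hne : A = A'
  · exact hne ▸ hg.comm
  · intro a ha
    exact Subgroup.mem_centralizer_singleton_iff.1
      (gen_le _ (hc.fix_le_Y ht ht1 hA' hA hne hg hct (hA.2 ha)))

/-- The product with an element of a member is conjugate into a normal odd subgroup. -/
theorem exists_normal_odd {t : G} (ht : t * t = 1) (ht1 : t ≠ 1) :
    ∃ N : Subgroup G, Odd (Nat.card N) ∧ N ≤ Subgroup.centralizer ({t} : Set G) ∧
      Subgroup.centralizer ({t} : Set G) ≤ Subgroup.normalizer (N : Set G) ∧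
      ∀ B ∈ D, ∀ b ∈ B, ∃ z ∈ N, IsConj (t * b) (t * z) := by
  haveI := hc.sys.fact_q
  obtain ⟨A₀, hA₀⟩ : D.Nonempty := by
    by_contra he
    rw [Set.not_nonempty_iff_eq_empty] at he
    refine ht1 (Subgroup.mem_bot.1 ?_)
    have := hc.gen_top
    rw [he, sSup_empty] at this
    rw [this]; trivial
  obtain ⟨A, hAD, hAfix⟩ := exists_fixed (hc.sys.odd_D hA₀) ht fun B hB => hc.sys.conj B hB t
  have hA := (hc.mem_pts_fix ht).2 ⟨hAD, hAfix⟩
  have hFX := hc.flatAt_fix ht ht1 hA
  set X := Y D t with hX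
  have hXodd : Odd (Nat.card X) := hc.ih X hFX.ne_top hFX.gen_eq ⟨A, hA⟩
  have hXC : X ≤ Subgroup.centralizer ({t} : Set G) := gen_le _
  have hXn : Subgroup.centralizer ({t} : Set G) ≤ Subgroup.normalizer (X : Set G) :=
    fun g hg => hc.sys.normalizer_le_gen _ (Subgroup.le_normalizer hg)
  obtain ⟨N, hNodd, hNC, hNn, hXN, hKN⟩ : ∃ N : Subgroup G, Odd (Nat.card N) ∧
      N ≤ Subgroup.centralizer ({t} : Set G) ∧
      Subgroup.centralizer ({t} : Set G) ≤ Subgroup.normalizer (N : Set G) ∧ X ≤ N ∧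
      ∀ A' ∈ pts D X, ∀ c, Good q D A' c → Commute c t → c ∈ N := by
    by_cases hK : ∃ A' ∈ pts D X, ∃ c, Good q D A' c ∧ Commute c t
    · obtain ⟨A', hA', c₀, hgc₀', hct₀⟩ := hK
      have hgc₀ := hc.good_base ht ht1 hA hA' hgc₀' hct₀
      obtain ⟨B₀, hB₀, hne⟩ : ∃ B ∈ pts D X, B ≠ A := by
        by_contra hcon
        push Not at hcon
        exact hc.single ht ht1 hA hcon hgc₀
      have hFY := hc.flatAt_Y hgc₀
      have hYodd : Odd (Nat.card (Y D c₀)) := hc.ih _ hFY.ne_top hFY.gen_eq ⟨A, hFY.mem, hFY.le⟩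
      refine ⟨Y D c₀ ⊓ Subgroup.centralizer ({t} : Set G),
        Odd.of_dvd_nat hYodd (Subgroup.card_dvd_of_le inf_le_left), inf_le_right, fun g hg => ?_,
        le_inf (hc.fix_le_Y ht ht1 hA hB₀ hne hgc₀ hct₀) hXC, fun A'' hA'' c hgc hct => ?_⟩
      · have hgt : Commute g t := Subgroup.mem_centralizer_singleton_iff.1 hg
        have hgX : conjS g X = X := conjS_eq_self_iff.2 (hXn hg)
        have hc1 : Commute (g * c₀ * g⁻¹) t := (hgt.mul_left hct₀).mul_left hgt.inv_left
        have hYg : conjS g (Y D c₀) = Y D (g * c₀ * g⁻¹) := by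
          have e : conjS g (Subgroup.centralizer ({c₀} : Set G)) =
              Subgroup.centralizer ({g * c₀ * g⁻¹} : Set G) := by
            ext x
            rw [mem_conjS, Subgroup.mem_centralizer_singleton_iff, Subgroup.mem_centralizer_singleton_iff]
            constructor
            · intro h
              calc x * (g * c₀ * g⁻¹) = g * (g⁻¹ * x * g * c₀) * g⁻¹ := by group
                _ = g * (c₀ * (g⁻¹ * x * g)) * g⁻¹ := by rw [h]
                _ = _ := by group
            · intro h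
              calc g⁻¹ * x * g * c₀ = g⁻¹ * (x * (g * c₀ * g⁻¹)) * g := by group
                _ = g⁻¹ * (g * c₀ * g⁻¹ * x) * g := by rw [h]
                _ = _ := by group
          rw [Y, Y, ← e]
          refine le_antisymm ?_ ?_
          · rw [gen, conjS, sSup_eq_iSup', Subgroup.map_iSup]
            exact iSup_le fun E => le_sSup ⟨hc.sys.conj _ E.2.1 g, conjS_mono E.2.2⟩
          · refine sSup_le fun E hE => ?_
            have h5 : conjS g⁻¹ E ≤ gen D (Subgroup.centralizer ({c₀} : Set G)) :=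
              le_sSup ⟨hc.sys.conj _ hE.1 g⁻¹, (conjS_mono hE.2).trans (by
                rw [← conjS_mul, inv_mul_cancel, conjS_one])⟩
            have h6 := conjS_mono (g := g) h5
            rwa [← conjS_mul, mul_inv_cancel, conjS_one] at h6
        have hgg : Good q D (conjS g A) (g * c₀ * g⁻¹) := by
          refine ⟨hc.sys.conj A hAD g, by simpa using hgc₀.ne_one, fun a ha => ?_, ?_⟩
          · have := (hgc₀.comm _ (mem_conjS.1 ha)).map (MulAut.conj g).toMonoidHom
            simpa [mul_assoc] using this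
          · rw [← hYg, ← conjS_qPart]; exact conj_mem_conjS hgc₀.mem_qPart
        have hgA : conjS g A ∈ pts D X := ⟨hc.sys.conj A hAD g, (conjS_mono hA.2).trans hgX.le⟩
        have heq := hc.Y_unique ht ht1 hA hB₀ hne (hc.good_base ht ht1 hA hgA hgg hc1) hc1 hgc₀ hct₀
        have hgY : g ∈ Subgroup.normalizer ((Y D c₀ : Subgroup G) : Set G) :=
          conjS_eq_self_iff.1 (hYg.trans heq)
        refine Subgroup.mem_normalizer_iff.2 fun x => ?_
        rw [Subgroup.mem_inf, Subgroup.mem_inf, ← Subgroup.mem_normalizer_iff.1 hgY x,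
          ← Subgroup.mem_normalizer_iff.1 (Subgroup.le_normalizer hg) x]
      · have hgc' := hc.good_base ht ht1 hA hA'' hgc hct
        refine Subgroup.mem_inf.2 ⟨?_, Subgroup.mem_centralizer_singleton_iff.2 hct.eq⟩
        rw [← hc.Y_unique ht ht1 hA hB₀ hne hgc' hct hgc₀ hct₀]
        exact qPart_le _ hgc'.mem_qPart
    · push Not at hK
      exact ⟨X, hXodd, hXC, hXn, le_rfl, fun A' hA' c hg hct => absurd hct (hK A' hA' c hg)⟩
  refine ⟨N, hNodd, hNC, hNn, fun B hB b hb => ?_⟩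
  by_cases hBfix : conjS t B = B
  · exact ⟨b, hXN (((hc.mem_pts_fix ht).2 ⟨hB, hBfix⟩).2 hb), IsConj.refl _⟩
  obtain ⟨C, hC, hCfix, hCB, hF⟩ := hc.exists_partner ht hB hBfix
  have hFF := hc.flatAt_pair hC hB hCB
  obtain ⟨htF, hFn, hsupF⟩ := hc.flat hFF
  set K := qPart q (C ⊔ B) with hK
  have hbF : b ∈ K ⊔ C := hsupF.symm ▸ le_sup_right (a := C) hb
  obtain ⟨k₀, hk₀, a, ha, hba⟩ := mem_sup_of_le_normalizer htF.2.1 hbF
  have hta : Commute t a := hc.commute_of_fix hC ht hCfix a ha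
  have htK : t ∈ Subgroup.normalizer (K : Set G) := by
    rw [← conjS_eq_self_iff, hK, conjS_qPart, hF]
  set y := t * b with hy
  set k' := t * k₀ * t⁻¹ with hk'
  have hk'K : k' ∈ K := ((Subgroup.mem_normalizer_iff.1 htK) k₀).1 hk₀
  have hyk : y = k' * (t * a) := by rw [hy, hba, hk']; group
  have htaK : t * a ∈ Subgroup.normalizer (K : Set G) := mul_mem htK (htF.2.1 ha)
  obtain ⟨k'', hk'', hyp⟩ := pow_mul_mem hk'K htaK p
  rw [← hyk, hta.mul_pow] at hyp
  have hap : a ^ p = 1 := by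
    have := Subgroup.orderOf_dvd_natCard C ha
    rw [hc.sys.card C hC] at this
    exact orderOf_dvd_iff_pow_eq_one.1 this
  obtain ⟨i, hi⟩ := hc.sys.prime_p.odd_of_ne_two hc.sys.odd_p
  have htp : t ^ p = t := by rw [hi, pow_succ, pow_mul, pow_two, ht, one_pow, one_mul]
  rw [htp, hap, mul_one] at hyp
  obtain ⟨n, hn⟩ := IsPGroup.iff_card.1 htF.1
  obtain ⟨j, hj⟩ := (hc.sys.prime_q.odd_of_ne_two hc.sys.odd_q).pow (n := n)
  set s := (k'' * t) ^ (q ^ n) with hs
  have hsq : (k'' * t) * (k'' * t) ∈ K := by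
    have e : k'' * t * (k'' * t) = k'' * (t * k'' * t⁻¹) * (t * t) := by group
    rw [e, ht, mul_one]
    exact mul_mem hk'' (((Subgroup.mem_normalizer_iff.1 htK) k'').1 hk'')
  have hs2 : s * s = 1 := by
    rw [hs, ← pow_add, ← two_mul, pow_mul, pow_two, ← hn]
    exact congrArg Subtype.val (pow_card_eq_one' (x := (⟨_, hsq⟩ : K)))
  have hsK : ∃ e ∈ K, s = e * t := by
    refine ⟨((k'' * t) * (k'' * t)) ^ j * k'', mul_mem (pow_mem hsq _) hk'', ?_⟩
    rw [hs, hj, pow_succ, pow_mul, pow_two]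
    simp only [mul_assoc]
  have htnot : t ∉ K := by
    intro htK'
    have h1 : orderOf t ∣ q ^ n := hn ▸ Subgroup.orderOf_dvd_natCard K htK'
    have h2 : orderOf t ∣ 2 := orderOf_dvd_of_pow_eq_one (by rw [pow_two, ht])
    exact ht1 (orderOf_eq_one_iff.1 (Nat.eq_one_of_dvd_coprimes
      (((Nat.coprime_primes hc.sys.prime_q Nat.prime_two).2 hc.sys.odd_q).pow_left n) h1 h2))
  haveI : Fact (Nat.Prime 2) := ⟨Nat.prime_two⟩
  obtain ⟨e, he, hse⟩ := hsK
  have hW : IsPGroup 2 (Subgroup.zpowers s) := by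
    intro x
    obtain ⟨z, hz⟩ := Subgroup.mem_zpowers_iff.1 x.2
    refine ⟨1, Subtype.ext ?_⟩
    rw [SubmonoidClass.coe_pow, ← hz, ← zpow_natCast, ← zpow_mul, pow_one, mul_comm, zpow_mul,
      zpow_natCast, pow_two, hs2, one_zpow]
    rfl
  obtain ⟨k, hk, hle⟩ := exists_conj_of_sup (K := K) (A := Subgroup.zpowers t)
    (W := Subgroup.zpowers s) (Subgroup.zpowers_le.2 htK) hW
    (Subgroup.zpowers_le.2 (hse ▸ mul_mem (le_sup_left (b := Subgroup.zpowers t) he)
      (le_sup_right (a := K) (Subgroup.mem_zpowers t))))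
    (by rw [hn]; exact fun h => hc.sys.odd_q ((Nat.prime_dvd_prime_iff_eq Nat.prime_two
      hc.sys.prime_q).1 (Nat.prime_two.dvd_of_dvd_pow h)).symm)
  have hskt : k⁻¹ * s * k = t := by
    obtain ⟨z, hz⟩ := Subgroup.mem_zpowers_iff.1 (mem_conjS.1 (hle (Subgroup.mem_zpowers s)))
    rcases Int.even_or_odd' z with ⟨w, rfl | rfl⟩
    · exfalso
      rw [zpow_mul, show t ^ (2 : ℤ) = 1 by rw [zpow_two, ht], one_zpow] at hz
      have hs1 : s = 1 := by
        have := congrArg (fun x => k * x * k⁻¹) hz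
        simpa [mul_assoc] using this.symm
      rw [hs1] at hse
      exact htnot (eq_inv_of_mul_eq_one_right hse.symm ▸ inv_mem he)
    · rw [zpow_add, zpow_mul, show t ^ (2 : ℤ) = 1 by rw [zpow_two, ht], one_zpow,
        one_mul, zpow_one] at hz
      exact hz.symm
  have hys : Commute y s := by
    rw [hs, ← hyp, ← pow_mul]; exact Commute.self_pow _ _
  set y₀ := k⁻¹ * y * k with hy₀
  have hy₀t : Commute y₀ t := by
    rw [← hskt]
    show k⁻¹ * y * k * (k⁻¹ * s * k) = k⁻¹ * s * k * (k⁻¹ * y * k)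
    calc k⁻¹ * y * k * (k⁻¹ * s * k) = k⁻¹ * (y * s) * k := by group
      _ = k⁻¹ * (s * y) * k := by rw [hys.eq]
      _ = _ := by group
  set k₂ := k⁻¹ * k' * ((t * a) * k * (t * a)⁻¹) with hk₂
  have hk₂K : k₂ ∈ K := mul_mem (mul_mem (inv_mem hk) hk'K)
    (((Subgroup.mem_normalizer_iff.1 htaK) k).1 hk)
  have hy₀k : y₀ = k₂ * (t * a) := by rw [hy₀, hyk, hk₂]; group
  have hk₂t : Commute k₂ t := by
    have h1 : Commute (t * a) t := (Commute.refl t).mul_left hta.symm
    have h2 : k₂ = y₀ * (t * a)⁻¹ := by rw [hy₀k, mul_inv_cancel_right]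
    rw [h2]; exact hy₀t.mul_left h1.inv_left
  -- `k₂` fixes `C`
  have hk₂C : conjS k₂ C = C := by
    by_contra hne
    set C₂ := conjS k₂ C with hC₂
    have hC₂D : C₂ ∈ D := hc.sys.conj C hC k₂
    have hC₂fix : conjS t C₂ = C₂ := by rw [hC₂, ← conjS_mul, ← hk₂t.eq, conjS_mul, hCfix]
    have hC₂F : C₂ ≤ C ⊔ B := conjS_le le_sup_left (qPart_le _ hk₂K)
    have hsub : C ⊔ B ≤ Subgroup.centralizer ({t} : Set G) :=
      (hc.sys.minimal C hC B hB C hC C₂ hC₂D hCB (Ne.symm hne) le_sup_left hC₂F).trans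
        (sup_le (fun x hx => Subgroup.mem_centralizer_singleton_iff.2
            (hc.commute_of_fix hC ht hCfix x hx).symm.eq)
          fun x hx => Subgroup.mem_centralizer_singleton_iff.2
            (hc.commute_of_fix hC₂D ht hC₂fix x hx).symm.eq)
    exact hBfix (conjS_eq_self_of_commute fun x hx =>
      (Subgroup.mem_centralizer_singleton_iff.1 (hsub (le_sup_right (a := C) hx))).symm)
  have hk₂θ := hc.mem_theta_of_conj hFF hk₂K hk₂C
  have hCX : C ∈ pts D X := (hc.mem_pts_fix ht).2 ⟨hC, hCfix⟩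
  have hk₂N : k₂ ∈ N := by
    by_cases h1 : k₂ = 1
    · rw [h1]; exact one_mem _
    · exact hKN C hCX k₂ (hc.le_Y hFF hk₂θ h1).2 hk₂t
  refine ⟨k₂ * a, mul_mem hk₂N (hXN (hCX.2 ha)), isConj_iff.2 ⟨k⁻¹, ?_⟩⟩
  show k⁻¹ * (t * b) * k⁻¹⁻¹ = t * (k₂ * a)
  rw [inv_inv, ← hy, ← hy₀, hy₀k, ← mul_assoc, hk₂t.eq, mul_assoc]

end Critical

end Cfsg.Agent.OddPairs
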