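import Cfsg.Agent.Lib.OddPairs.Basic

/-!
# Passing to subgroups and quotients
-/

set_option autoImplicit false
set_option linter.unusedSectionVars false
set_option linter.style.haveILetI false

namespace Cfsg.Agent.OddPairs

open scoped commutatorElement

universe u

variable {G : Type u} [Group G] [Finite G] {p q : ℕ}

/-- The members of `D` inside a subgroup, as subgroups of it. -/
def restrictD (D : Set (Subgroup G)) (H : Subgroup G) : Set (Subgroup H) :=
  {A | A.map H.subtype ∈ D}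

/-- The images of the members of `D`. -/
def imageD (D : Set (Subgroup G)) (N : Subgroup G) [N.Normal] : Set (Subgroup (G ⧸ N)) :=
  (fun A => A.map (QuotientGroup.mk' N)) '' D

theorem map_conjS {G' : Type*} [Group G'] (f : G →* G') (g : G) (A : Subgroup G) :
    (conjS g A).map f = conjS (f g) (A.map f) := by
  ext x
  rw [mem_conjS, Subgroup.mem_map, Subgroup.mem_map]
  constructor
  · rintro ⟨y, hy, rfl⟩
    exact ⟨g⁻¹ * y * g, mem_conjS.1 hy, by simp⟩
  · rintro ⟨a, ha, he⟩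
    exact ⟨g * a * g⁻¹, conj_mem_conjS ha, by simp [map_mul, map_inv, he, mul_assoc]⟩

theorem tight_map {G' : Type*} [Group G'] (f : G →* G') {A Q : Subgroup G} (h : Tight q A Q) :
    Tight q (A.map f) (Q.map f) :=
  ⟨h.1.map f, (Subgroup.map_mono h.2.1).trans (Subgroup.le_normalizer_map f),
    (Subgroup.map_mono h.2.2).trans (Subgroup.map_commutator _ _ f).le⟩

namespace PairSys

variable {D : Set (Subgroup G)} (h : PairSys p q D)

include h

theorem restrict (H : Subgroup G) : PairSys p q (restrictD D H) where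
  prime_p := h.prime_p
  prime_q := h.prime_q
  odd_p := h.odd_p
  odd_q := h.odd_q
  ne := h.ne
  card A hA := by
    rw [← h.card _ hA, Subgroup.card_map_of_injective H.subtype_injective]
  conj A hA g := by
    show (conjS g A).map H.subtype ∈ D
    rw [map_conjS]
    exact h.conj _ hA _
  pair A hA B hB hne := by
    obtain ⟨K, hK, hsup, hn⟩ := h.pair _ hA _ hB fun e =>
      hne (Subgroup.map_injective H.subtype_injective e)
    have hKH : K ≤ H := le_trans (le_sup_left.trans hsup.ge)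
      (sup_le (Subgroup.map_subtype_le A) (Subgroup.map_subtype_le B))
    have hKm : (K.subgroupOf H).map H.subtype = K := by
      rw [Subgroup.subgroupOf_map_subtype, inf_eq_left.2 hKH]
    refine ⟨K.subgroupOf H, hK.comap_of_injective _ H.subtype_injective,
      Subgroup.map_injective H.subtype_injective
        (by rw [Subgroup.map_sup, Subgroup.map_sup, hKm]; exact hsup), ?_⟩
    intro x hx
    rw [Subgroup.mem_normalizer_iff]
    intro k
    have h1 : (x : G) ∈ A.map H.subtype ⊔ B.map H.subtype := by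
      rw [← Subgroup.map_sup]; exact ⟨x, hx, rfl⟩
    simp only [Subgroup.mem_subgroupOf, Subgroup.coe_mul, Subgroup.coe_inv]
    exact Subgroup.mem_normalizer_iff.1 (hn h1) k
  minimal A hA B hB A' hA' B' hB' hne hne' hle hle' := by
    have := h.minimal _ hA _ hB _ hA' _ hB' (fun e => hne (Subgroup.map_injective H.subtype_injective e))
      (fun e => hne' (Subgroup.map_injective H.subtype_injective e))
      (by rw [← Subgroup.map_sup]; exact Subgroup.map_mono hle)
      (by rw [← Subgroup.map_sup]; exact Subgroup.map_mono hle')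
    rwa [← Subgroup.map_sup, ← Subgroup.map_sup,
      Subgroup.map_le_map_iff_of_injective H.subtype_injective] at this
  cen A hA Q hQ z hz hfix x hx := by
    refine Subtype.ext ((h.cen _ hA _ (tight_map H.subtype hQ) z ⟨z, hz, rfl⟩ ?_ x ⟨x, hx, rfl⟩).eq)
    rintro _ ⟨a, ha, rfl⟩
    exact Subtype.ext_iff.1 (hfix a ha).eq
  special := by
    rcases h.special with hs | hs
    · refine Or.inl fun A hA Q hQ x hx y hy a ha => ?_
      have := hs _ hA _ (tight_map H.subtype hQ) x ⟨x, hx, rfl⟩ y ⟨y, hy, rfl⟩ a ⟨a, ha, rfl⟩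
      exact Subtype.ext this.eq
    · refine Or.inr fun A hA Q hQ z hz hfix => ?_
      refine Subtype.ext (hs _ hA _ (tight_map H.subtype hQ) z ⟨z, hz, rfl⟩ ?_)
      rintro _ ⟨a, ha, rfl⟩
      exact Subtype.ext_iff.1 (hfix a ha).eq

theorem tight_lift (N : Subgroup G) [N.Normal]
    (hlift : ∀ Qb : Subgroup (G ⧸ N), IsPGroup q Qb → ∃ Q1 : Subgroup G, IsPGroup q Q1 ∧
      Q1.map (QuotientGroup.mk' N) = Qb ∧
      Subgroup.normalizer ((Qb.comap (QuotientGroup.mk' N) : Subgroup G) : Set G) ≤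
        Subgroup.normalizer (Q1 : Set G))
    {A : Subgroup G} (hA : A ∈ D) {Qb : Subgroup (G ⧸ N)}
    (hQb : Tight q (A.map (QuotientGroup.mk' N)) Qb) :
    ∃ Q : Subgroup G, Tight q A Q ∧ Q.map (QuotientGroup.mk' N) = Qb ∧
      ∀ z ∈ Qb, (∀ a ∈ A, Commute (QuotientGroup.mk' N a) z) →
        ∃ y ∈ Q, QuotientGroup.mk' N y = z ∧ ∀ a ∈ A, Commute a y := by
  haveI := h.fact_p
  haveI := h.fact_q
  obtain ⟨Q1, hQ1, hmap, hnorm⟩ := hlift Qb hQb.1
  have hA1 : A ≤ Subgroup.normalizer (Q1 : Set G) := by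
    intro a ha
    refine hnorm (Subgroup.mem_normalizer_iff.2 fun y => ?_)
    simp only [Subgroup.mem_comap, map_mul, map_inv]
    exact Subgroup.mem_normalizer_iff.1 (hQb.2.1 ⟨a, ha, rfl⟩) _
  obtain ⟨ht, -⟩ := commutator_tight h.ne (h.card A hA) hQ1 hA1
  have hmapQ : (⁅Q1, A⁆).map (QuotientGroup.mk' N) = Qb := by
    rw [Subgroup.map_commutator, hmap]
    refine le_antisymm ?_ hQb.2.2
    rw [Subgroup.commutator_le]
    intro x hx a ha
    rw [commutatorElement_def]
    have h1 := ((Subgroup.mem_normalizer_iff.1 (hQb.2.1 ha)) x⁻¹).1 (Qb.inv_mem hx)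
    simpa [mul_assoc] using Qb.mul_mem hx h1
  refine ⟨⁅Q1, A⁆, ht, hmapQ, fun z hz hfix => ?_⟩
  obtain ⟨y0, hy0, rfl⟩ := (show z ∈ (⁅Q1, A⁆).map (QuotientGroup.mk' N) by rwa [hmapQ])
  have hn : A ≤ Subgroup.normalizer ((N ⊓ ⁅Q1, A⁆ : Subgroup G) : Set G) := by
    intro a ha
    rw [Subgroup.mem_normalizer_iff]
    intro y
    rw [Subgroup.mem_inf, Subgroup.mem_inf, ← Subgroup.mem_normalizer_iff.1 (ht.2.1 ha) y]
    refine and_congr_left fun _ => ⟨fun hy => Subgroup.Normal.conj_mem inferInstance y hy a, fun hy => ?_⟩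
    simpa [mul_assoc] using Subgroup.Normal.conj_mem (H := N) inferInstance _ hy a⁻¹
  obtain ⟨m, hm, hc⟩ := exists_fixed_in_coset h.ne (h.card A hA) (ht.1.to_le inf_le_right) hn
    (x := y0) fun a ha => by
      refine Subgroup.mem_inf.2 ⟨?_, ?_⟩
      · rw [← QuotientGroup.eq_one_iff]
        show QuotientGroup.mk' N ⁅y0⁻¹, a⁆ = 1
        rw [map_commutatorElement, map_inv, commutatorElement_eq_one_iff_commute]
        exact ((hfix a ha).symm).inv_left
      · rw [commutatorElement_def]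
        have h1 := ((Subgroup.mem_normalizer_iff.1 (ht.2.1 ha)) _).1 hy0
        simpa [mul_assoc] using mul_mem (inv_mem hy0) h1
  refine ⟨y0 * m, mul_mem hy0 (Subgroup.mem_inf.1 hm).2, ?_, hc⟩
  rw [map_mul, (QuotientGroup.eq_one_iff m).2 (Subgroup.mem_inf.1 hm).1 |> fun e => (show
    QuotientGroup.mk' N m = 1 from e), mul_one]

/-- Passing to a quotient. -/
theorem quotient (N : Subgroup G) [N.Normal] (hNA : ∀ A ∈ D, ¬ A ≤ N)
    (hlift : ∀ Qb : Subgroup (G ⧸ N), IsPGroup q Qb → ∃ Q1 : Subgroup G, IsPGroup q Q1 ∧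
      Q1.map (QuotientGroup.mk' N) = Qb ∧
      Subgroup.normalizer ((Qb.comap (QuotientGroup.mk' N) : Subgroup G) : Set G) ≤
        Subgroup.normalizer (Q1 : Set G)) : PairSys p q (imageD D N) := by
  have hcard : ∀ A ∈ D, Nat.card (A.map (QuotientGroup.mk' N)) = p := by
    intro A hA
    have h1 : Nat.card (A.map (QuotientGroup.mk' N)) ∣ p := h.card A hA ▸ Subgroup.card_map_dvd _ _
    refine (h.prime_p.eq_one_or_self_of_dvd _ h1).resolve_left fun e => hNA A hA ?_
    rw [← QuotientGroup.ker_mk' N, ← Subgroup.map_eq_bot_iff, Subgroup.eq_bot_iff_card, e]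
  refine
    { prime_p := h.prime_p, prime_q := h.prime_q, odd_p := h.odd_p, odd_q := h.odd_q, ne := h.ne
      card := ?_, conj := ?_, pair := ?_, minimal := ?_, cen := ?_, special := ?_ }
  · rintro _ ⟨A, hA, rfl⟩; exact hcard A hA
  · rintro _ ⟨A, hA, rfl⟩ g
    obtain ⟨g, rfl⟩ := QuotientGroup.mk'_surjective N g
    exact ⟨conjS g A, h.conj A hA g, map_conjS _ _ _⟩
  · rintro _ ⟨A, hA, rfl⟩ _ ⟨B, hB, rfl⟩ hne
    obtain ⟨K, hK, hsup, hn⟩ := h.pair A hA B hB fun e => hne (by rw [e])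
    refine ⟨K.map (QuotientGroup.mk' N), hK.map _, ?_, ?_⟩
    · rw [← Subgroup.map_sup, ← Subgroup.map_sup, hsup]
    · rw [← Subgroup.map_sup]
      exact (Subgroup.map_mono hn).trans (Subgroup.le_normalizer_map _)
  · rintro _ ⟨A, hA, rfl⟩ _ ⟨B, hB, rfl⟩ _ ⟨A', hA', rfl⟩ _ ⟨B', hB', rfl⟩ hne hne' hle hle'
    dsimp only at hne hne' hle hle' ⊢
    haveI := h.fact_p
    haveI := h.fact_q
    obtain ⟨K, hK, hsup, hn⟩ := h.pair A hA B hB fun e => hne (by rw [e])
    rw [← Subgroup.map_sup, hsup, Subgroup.map_sup] at hle hle'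
    have hn' : A.map (QuotientGroup.mk' N) ≤
        Subgroup.normalizer ((K.map (QuotientGroup.mk' N) : Subgroup (G ⧸ N)) : Set (G ⧸ N)) :=
      (Subgroup.map_mono (le_sup_left.trans hn)).trans (Subgroup.le_normalizer_map _)
    have key : ∀ E ∈ D, E.map (QuotientGroup.mk' N) ≤
        K.map (QuotientGroup.mk' N) ⊔ A.map (QuotientGroup.mk' N) →
        ∃ E0 ∈ D, E0 ≤ A ⊔ B ∧ E0.map (QuotientGroup.mk' N) = E.map (QuotientGroup.mk' N) := by
      intro E hE hEle
      obtain ⟨kb, hkb, hk2⟩ := exists_conj_of_sup hn' ((h.isPGroup hE).map _) hEle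
        (h.not_dvd_card hK ∘ fun hd => hd.trans (Subgroup.card_map_dvd _ _))
      obtain ⟨k, hk, rfl⟩ := hkb
      refine ⟨conjS k A, h.conj A hA k, ?_, ?_⟩
      · rw [hsup]; exact conjS_le le_sup_right (le_sup_left (b := A) hk)
      · rw [map_conjS]
        exact (Subgroup.eq_of_le_of_card_ge hk2 (by rw [card_conjS, hcard E hE, hcard A hA])).symm
    obtain ⟨E1, hE1, hl1, e1⟩ := key A' hA' hle
    obtain ⟨E2, hE2, hl2, e2⟩ := key B' hB' hle'
    rw [← e1, ← e2, ← Subgroup.map_sup, ← Subgroup.map_sup]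
    refine Subgroup.map_mono (h.minimal A hA B hB E1 hE1 E2 hE2 (fun e => hne (by rw [e]))
      (fun e => hne' (by rw [← e1, ← e2, e])) hl1 hl2)
  · rintro _ ⟨A, hA, rfl⟩ Qb hQb z hz hfix x hx
    obtain ⟨Q, hQ, hmap, hfp⟩ := h.tight_lift N hlift hA hQb
    obtain ⟨y, hy, rfl, hyc⟩ := hfp z hz fun a ha => hfix _ ⟨a, ha, rfl⟩
    obtain ⟨x, hx', rfl⟩ := (show x ∈ Q.map (QuotientGroup.mk' N) by rwa [hmap])
    exact (h.cen A hA Q hQ y hy hyc x hx').map _
  · rcases h.special with hs | hs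
    · refine Or.inl ?_
      rintro _ ⟨A, hA, rfl⟩ Qb hQb x hx y hy _ ⟨a, ha, rfl⟩
      obtain ⟨Q, hQ, hmap, -⟩ := h.tight_lift N hlift hA hQb
      obtain ⟨x, hx', rfl⟩ := (show x ∈ Q.map (QuotientGroup.mk' N) by rwa [hmap])
      obtain ⟨y, hy', rfl⟩ := (show y ∈ Q.map (QuotientGroup.mk' N) by rwa [hmap])
      rw [← map_commutatorElement]
      exact (hs A hA Q hQ x hx' y hy' a ha).map _
    · refine Or.inr ?_
      rintro _ ⟨A, hA, rfl⟩ Qb hQb z hz hfix
      obtain ⟨Q, hQ, hmap, hfp⟩ := h.tight_lift N hlift hA hQb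
      obtain ⟨y, hy, rfl, hyc⟩ := hfp z hz fun a ha => hfix _ ⟨a, ha, rfl⟩
      rw [hs A hA Q hQ y hy hyc, map_one]

end PairSys

/-- Lifts along a `q`-group. -/
theorem lift_of_qgroup (N : Subgroup G) [N.Normal] (hN : IsPGroup q N) (Qb : Subgroup (G ⧸ N))
    (hQb : IsPGroup q Qb) : ∃ Q1 : Subgroup G, IsPGroup q Q1 ∧
      Q1.map (QuotientGroup.mk' N) = Qb ∧
      Subgroup.normalizer ((Qb.comap (QuotientGroup.mk' N) : Subgroup G) : Set G) ≤
        Subgroup.normalizer (Q1 : Set G) :=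
  ⟨Qb.comap (QuotientGroup.mk' N), hQb.comap_of_ker_isPGroup _ (by rwa [QuotientGroup.ker_mk']),
    Subgroup.map_comap_eq_self_of_surjective (QuotientGroup.mk'_surjective N) _, le_rfl⟩

/-- Lifts along a central subgroup of order prime to `q`. -/
theorem lift_of_central (hq : q.Prime) (N : Subgroup G) [N.Normal] (hcen : N ≤ Subgroup.center G)
    (hco : ¬ q ∣ Nat.card N) (Qb : Subgroup (G ⧸ N))
    (hQb : IsPGroup q Qb) : ∃ Q1 : Subgroup G, IsPGroup q Q1 ∧
      Q1.map (QuotientGroup.mk' N) = Qb ∧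
      Subgroup.normalizer ((Qb.comap (QuotientGroup.mk' N) : Subgroup G) : Set G) ≤
        Subgroup.normalizer (Q1 : Set G) := by
  haveI := Fact.mk hq
  set P := Qb.comap (QuotientGroup.mk' N) with hP
  have hNP : N ≤ P := by
    intro x hx
    rw [hP, Subgroup.mem_comap, show QuotientGroup.mk' N x = 1 from (QuotientGroup.eq_one_iff x).2 hx]
    exact Qb.one_mem
  obtain ⟨n, hn⟩ := IsPGroup.iff_card.1 hQb
  have hcardP : Nat.card P = Nat.card N * Nat.card Qb :=
    QuotientGroup.card_preimage_mk N (Qb : Set (G ⧸ N))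
  have hidx : (N.subgroupOf P).index = q ^ n := by
    have h2 := Subgroup.card_mul_index (N.subgroupOf P)
    rw [Nat.card_congr (Subgroup.subgroupOfEquivOfLe hNP).toEquiv, hcardP, hn] at h2
    exact Nat.eq_of_mul_eq_mul_left Nat.card_pos h2
  have hcoq : ∀ m, (Nat.card N).Coprime (q ^ m) := fun m =>
    ((hq.coprime_iff_not_dvd.2 hco).symm).pow_right m
  obtain ⟨R, hR⟩ := Subgroup.exists_right_complement'_of_coprime (N := N.subgroupOf P)
    (by rw [hidx, Nat.card_congr (Subgroup.subgroupOfEquivOfLe hNP).toEquiv]; exact hcoq n)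
  have hRcard : Nat.card R = q ^ n := by rw [← hR.symm.index_eq_card, hidx]
  -- `R` consists of the `q`-elements of `P`
  have hchar : ∀ x : P, x ∈ R ↔ ∃ m, (x : G) ^ q ^ m = 1 := by
    intro x
    constructor
    · intro hx
      obtain ⟨m, hm⟩ := IsPGroup.of_card hRcard ⟨x, hx⟩
      exact ⟨m, by simpa using congrArg (fun t : R => ((t : P) : G)) hm⟩
    · rintro ⟨m, hm⟩
      obtain ⟨⟨⟨z, hz⟩, ⟨r, hr⟩⟩, rfl⟩ := hR.2 x
      obtain ⟨m', hm'⟩ := IsPGroup.of_card hRcard ⟨r, hr⟩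
      have hm'' : (r : G) ^ q ^ m' = 1 := by
        simpa using congrArg (fun t : R => ((t : P) : G)) hm'
      have hzN : (z : G) ∈ N := Subgroup.mem_subgroupOf.1 hz
      have hc : Commute (z : G) (r : G) :=
        (Subgroup.mem_center_iff.1 (hcen hzN) r).symm
      have e1 : ((z : G) * r) ^ q ^ (m + m') = 1 := by
        rw [pow_add, pow_mul]; simp only [Subgroup.coe_mul] at hm; rw [hm, one_pow]
      rw [hc.mul_pow, show (r : G) ^ q ^ (m + m') = 1 by
        rw [pow_add, mul_comm, pow_mul, hm'', one_pow], mul_one] at e1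
      have hz1 : (z : G) = 1 := orderOf_eq_one_iff.1 (Nat.eq_one_of_dvd_coprimes (hcoq (m + m'))
        (Subgroup.orderOf_dvd_natCard N hzN) (orderOf_dvd_of_pow_eq_one e1))
      show z * r ∈ R; rw [show z = 1 from Subtype.ext hz1, one_mul]
      exact hr
  refine ⟨R.map P.subtype, (IsPGroup.of_card hRcard).map _, ?_, ?_⟩
  · refine le_antisymm ?_ fun y hy => ?_
    · rintro _ ⟨_, ⟨x, -, rfl⟩, rfl⟩
      exact Subgroup.mem_comap.1 x.2
    · obtain ⟨x, rfl⟩ := QuotientGroup.mk'_surjective N y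
      obtain ⟨⟨⟨z, hz⟩, ⟨r, hr⟩⟩, e⟩ := hR.2 ⟨x, Subgroup.mem_comap.2 hy⟩
      refine ⟨r, ⟨r, hr, rfl⟩, ?_⟩
      have e' : (z : G) * r = x := congrArg Subtype.val e
      rw [← e', map_mul, show QuotientGroup.mk' N (z : G) = 1 from
        (QuotientGroup.eq_one_iff _).2 (Subgroup.mem_subgroupOf.1 hz), one_mul]
  · intro g hg
    have key : ∀ g ∈ Subgroup.normalizer (P : Set G), ∀ y ∈ R.map P.subtype,
        g * y * g⁻¹ ∈ R.map P.subtype := by
      rintro g hg _ ⟨x, hx, rfl⟩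
      obtain ⟨m, hm⟩ := (hchar x).1 hx
      refine ⟨⟨g * x * g⁻¹, (Subgroup.mem_normalizer_iff.1 hg x).1 x.2⟩,
        (hchar _).2 ⟨m, ?_⟩, rfl⟩
      show (g * (x : G) * g⁻¹) ^ q ^ m = 1
      rw [conj_pow, hm]; simp
    refine Subgroup.mem_normalizer_iff.2 fun y => ⟨key g hg y, fun hy => ?_⟩
    simpa [mul_assoc] using key g⁻¹ (inv_mem hg) _ hy

end Cfsg.Agent.OddPairs
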