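import Cfsg.Agent.Lib.OddPairs.Descent
import Cfsg.Agent.Lib.Solvable.Fitting
import Cfsg.Agent.Lib.Char.CoprimeCount
import Cfsg.Agent.Lib.OddChar.OddTheorem

/-!
# Subgroups of odd order generated by members of `D`
-/

set_option autoImplicit false
set_option linter.unusedSectionVars false
set_option linter.style.haveILetI false

namespace Cfsg.Agent.OddPairs

open scoped commutatorElement

universe u

variable {G : Type u} [Group G] [Finite G] {p q : ℕ} {D : Set (Subgroup G)}

/-- A non-trivial solvable normal subgroup contains a non-trivial normal prime power subgroup. -/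
theorem exists_normal_prime_le {N : Subgroup G} (hN : N.Normal) (hne : N ≠ ⊥)
    (hs : Group.IsSolvable N) :
    ∃ r : ℕ, r.Prime ∧ ∃ R : Subgroup G, R.Normal ∧ R ≠ ⊥ ∧ IsPGroup r R ∧ R ≤ N := by
  haveI : Nontrivial N := (Subgroup.nontrivial_iff_ne_bot N).2 hne
  obtain ⟨r, hr, A, hAn, hA0, hAr⟩ := Cfsg.Agent.CoprimeCount.exists_normal_pgroup N hs
  refine ⟨r, hr, (Cfsg.pCore r N).map N.subtype, ?_, ?_, ?_, Subgroup.map_subtype_le _⟩
  · exact Cfsg.Agent.FittingCores.normal_map_of_characteristic hN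
      (hK := Cfsg.Agent.FittingCores.pCore_characteristic r)
  · intro e
    rw [Subgroup.map_eq_bot_iff_of_injective _ N.subtype_injective] at e
    exact hA0 (le_bot_iff.1 (e ▸ Cfsg.Agent.FittingCores.le_pCore hAn hAr))
  · exact (Cfsg.Agent.FittingCores.pCore_isPGroup r).map _

/-- An element centralising all members of a generating set is central. -/
theorem mem_center_of_commute (hgen : sSup D = ⊤) {x : G}
    (hx : ∀ A ∈ D, ∀ a ∈ A, Commute x a) : x ∈ Subgroup.center G := by
  have h1 : sSup D ≤ Subgroup.centralizer ({x} : Set G) := sSup_le fun A hA a ha =>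
    Subgroup.mem_centralizer_singleton_iff.2 (hx A hA a ha).symm.eq
  rw [hgen] at h1
  exact Subgroup.mem_center_iff.2 fun g =>
    Subgroup.mem_centralizer_singleton_iff.1 (h1 (Subgroup.mem_top g))

namespace PairSys

variable (h : PairSys p q D)

include h

/-- A normal `r`-subgroup, `r ≠ q`, is centralised by every member of `D`. -/
theorem normal_prime_central {r : ℕ} [Fact r.Prime] (hrq : r ≠ q) {R : Subgroup G} (hR : R.Normal)
    (hRr : IsPGroup r R) {A : Subgroup G} (hA : A ∈ D) : ∀ x ∈ R, ∀ a ∈ A, Commute x a := by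
  haveI := hR
  haveI := h.fact_p
  haveI := h.fact_q
  intro x hx
  have hxB : conjS x A ≤ R ⊔ A := conjS_le le_sup_right (le_sup_left (b := A) hx)
  have hsame : conjS x A = A := by
    by_contra hne
    obtain ⟨K, hK, hsup, -⟩ := h.pair A hA _ (h.conj A hA x) fun e => hne e.symm
    have hKle : K ≤ R ⊔ A := le_sup_left.trans (hsup ▸ sup_le le_sup_right hxB)
    have hKR : K ≤ R := by
      rcases eq_or_ne r p with rfl | hrp
      · have hKb : K = ⊥ := disjoint_self.1 (h.disjoint_qp hK
          ((hRr.to_sup_of_normal_left (h.isPGroup hA)).to_le hKle))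
        rw [hKb]; exact bot_le
      · intro k hk
        obtain ⟨r', hr', a, ha, rfl⟩ := Subgroup.mem_sup_of_normal_left.1 (hKle hk)
        obtain ⟨n, hn⟩ := hK ⟨r' * a, hk⟩
        have hn' : (r' * a) ^ q ^ n = 1 := by simpa using congrArg Subtype.val hn
        obtain ⟨k', hk', e⟩ := pow_mul_mem hr' (show a ∈ Subgroup.normalizer (R : Set G) by
          rw [Subgroup.normalizer_eq_top]; exact Subgroup.mem_top a) (q ^ n)
        rw [hn'] at e
        have e3 : a ^ q ^ n ∈ R ⊓ A := ⟨by
          rw [eq_inv_of_mul_eq_one_right e.symm]; exact R.inv_mem hk', A.pow_mem ha _⟩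
        rw [(IsPGroup.disjoint_of_ne r p hrp R A hRr (h.isPGroup hA)).eq_bot, Subgroup.mem_bot] at e3
        have e5 : a = 1 := by
          have h6 : orderOf a ∣ p := h.card A hA ▸ Subgroup.orderOf_dvd_natCard A ha
          refine orderOf_eq_one_iff.1
            (Nat.eq_one_of_dvd_coprimes ?_ (orderOf_dvd_of_pow_eq_one e3) h6)
          exact Nat.Coprime.pow_left _ ((Nat.coprime_primes h.prime_q h.prime_p).2 h.ne)
        rw [e5, mul_one]; exact hr'
    have hKb : K = ⊥ := disjoint_self.1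
      (IsPGroup.disjoint_of_ne q r (Ne.symm hrq) K K hK (hRr.to_le hKR))
    rw [hKb, bot_sup_eq] at hsup
    exact hne (h.eq_of_le (h.conj A hA x) hA (le_sup_right.trans hsup.le))
  have hnorm := conjS_eq_self_iff.1 hsame
  rcases eq_or_ne r p with rfl | hrp
  · obtain ⟨n, hn⟩ := hRr ⟨x, hx⟩
    have hn' : x ^ r ^ n = 1 := by simpa using congrArg Subtype.val hn
    refine commute_of_normalises h.prime_p (h.card A hA) hnorm
      (Nat.Coprime.coprime_dvd_left (orderOf_dvd_of_pow_eq_one hn') (Nat.Coprime.pow_left _ ?_))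
    rw [h.prime_p.coprime_iff_not_dvd]
    intro hd
    have := h.prime_p.two_le
    have := Nat.le_of_dvd (by omega) hd
    omega
  · intro a ha
    have e : ⁅x, a⁆ ∈ R ⊓ A := by
      refine ⟨?_, ?_⟩
      · rw [commutatorElement_def]
        simpa [mul_assoc] using R.mul_mem hx (hR.conj_mem _ (R.inv_mem hx) a)
      · rw [commutatorElement_def]
        exact A.mul_mem ((Subgroup.mem_normalizer_iff.1 hnorm a).1 ha) (A.inv_mem ha)
    rw [(IsPGroup.disjoint_of_ne r p hrp R A hRr (h.isPGroup hA)).eq_bot, Subgroup.mem_bot,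
      commutatorElement_eq_one_iff_commute] at e
    exact e

end PairSys

theorem flat_top_aux : ∀ (n : ℕ) (G : Type u) [Group G] [Finite G] (D : Set (Subgroup G)),
    Nat.card G = n → PairSys p q D → Group.IsSolvable G → sSup D = ⊤ → ∀ A ∈ D,
      ∃ M : Subgroup G, M.Normal ∧ IsPGroup q M ∧ M ⊔ A = ⊤ := by
  intro n
  induction n using Nat.strong_induction_on with
  | _ n ih =>
  intro G _ _ D hn h hsol hgen A hA
  haveI := h.fact_q
  by_cases hex : ∃ N : Subgroup G, N.Normal ∧ N ≠ ⊥ ∧ IsPGroup q N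
  · obtain ⟨N, hNn, hN0, hNq⟩ := hex
    haveI := hNn
    have hNA : ∀ B ∈ D, ¬ B ≤ N := fun B hB hle => h.ne_bot hB
      (disjoint_self.1 (Disjoint.mono_left hle (h.disjoint_qp hNq (h.isPGroup hB))))
    have hlt : Nat.card (G ⧸ N) < n := hn ▸ by
      rw [← Subgroup.index_eq_card, ← N.card_mul_index]
      exact lt_mul_of_one_lt_left (Nat.pos_of_ne_zero Subgroup.index_ne_zero_of_finite)
        (Finite.one_lt_card_iff_nontrivial.2 ((Subgroup.nontrivial_iff_ne_bot N).2 hN0))
    obtain ⟨Mb, hMn, hMq, hMA⟩ := ih _ hlt (G ⧸ N) (imageD D N) rfl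
      (h.quotient N hNA (lift_of_qgroup N hNq))
      (Group.isSolvable_of_surjective (QuotientGroup.mk'_surjective N)) (by
        rw [imageD, sSup_image, ← (Subgroup.gc_map_comap _).l_sSup, hgen]
        exact Subgroup.map_top_of_surjective _ (QuotientGroup.mk'_surjective N))
      _ ⟨A, hA, rfl⟩
    refine ⟨Mb.comap (QuotientGroup.mk' N), hMn.comap _,
      hMq.comap_of_ker_isPGroup _ (by rwa [QuotientGroup.ker_mk']), ?_⟩
    have h1 : (Mb.comap (QuotientGroup.mk' N) ⊔ A).map (QuotientGroup.mk' N) = ⊤ := by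
      rw [Subgroup.map_sup, Subgroup.map_comap_eq_self_of_surjective (QuotientGroup.mk'_surjective N),
        hMA]
    have h2 := congrArg (Subgroup.comap (QuotientGroup.mk' N)) h1
    rw [Subgroup.comap_map_eq, QuotientGroup.ker_mk', Subgroup.comap_top] at h2
    have h3 : N ≤ Mb.comap (QuotientGroup.mk' N) := fun x hx => by
      rw [Subgroup.mem_comap, show QuotientGroup.mk' N x = 1 from (QuotientGroup.eq_one_iff x).2 hx]
      exact one_mem _
    rwa [sup_eq_left.2 (le_trans h3 le_sup_left)] at h2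
  · push Not at hex
    by_cases hAtop : A = ⊤
    · exact ⟨⊥, inferInstance, IsPGroup.of_bot, by rw [bot_sup_eq, hAtop]⟩
    exfalso
    refine hAtop ?_
    -- it suffices that the group be commutative
    have key : (∀ B ∈ D, ∀ a ∈ A, ∀ b ∈ B, Commute b a) → A = ⊤ := by
      intro hc
      rw [← hgen]
      exact le_antisymm (le_sSup hA) (sSup_le fun B hB =>
        (h.eq_of_commute hA hB fun b hb a ha => hc B hB a ha b hb).ge)
    haveI : Nontrivial G := by
      obtain ⟨a, ha, ha1⟩ := (Subgroup.nontrivial_iff_exists_ne_one A).1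
        ((Subgroup.nontrivial_iff_ne_bot A).2 (h.ne_bot hA))
      exact ⟨⟨a, 1, ha1⟩⟩
    obtain ⟨r, hr, R, hRn, hR0, hRr, -⟩ := exists_normal_prime_le (G := G) (N := ⊤) inferInstance
      top_ne_bot inferInstance
    haveI := Fact.mk hr
    have hrq : r ≠ q := fun e => hex R hRn hR0 (e ▸ hRr)
    have hRc : R ≤ Subgroup.center G := fun x hx => mem_center_of_commute hgen fun B hB b hb =>
      h.normal_prime_central hrq hRn hRr hB x hx b hb
    haveI := hRn
    by_cases hAR : ∃ B ∈ D, B ≤ R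
    · obtain ⟨B, hB, hBR⟩ := hAR
      have hAB : A = B := (h.eq_of_commute hB hA fun a _ b hb =>
        ((Subgroup.mem_center_iff.1 (hRc (hBR hb))) a)).symm
      refine key fun C _ a ha c _ => ?_
      exact (Subgroup.mem_center_iff.1 (hRc (hBR (hAB ▸ ha)))) c
    push Not at hAR
    have hco : ¬ q ∣ Nat.card R := by
      intro hd
      obtain ⟨k, hk⟩ := IsPGroup.iff_card.1 hRr
      rw [hk] at hd
      exact hrq ((Nat.prime_dvd_prime_iff_eq h.prime_q hr).1 (h.prime_q.dvd_of_dvd_pow hd)).symm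
    have hlt : Nat.card (G ⧸ R) < n := hn ▸ by
      rw [← Subgroup.index_eq_card, ← R.card_mul_index]
      exact lt_mul_of_one_lt_left (Nat.pos_of_ne_zero Subgroup.index_ne_zero_of_finite)
        (Finite.one_lt_card_iff_nontrivial.2 ((Subgroup.nontrivial_iff_ne_bot R).2 hR0))
    obtain ⟨Mb, hMn, hMq, hMA⟩ := ih _ hlt (G ⧸ R) (imageD D R) rfl
      (h.quotient R hAR (lift_of_central h.prime_q R hRc hco))
      (Group.isSolvable_of_surjective (QuotientGroup.mk'_surjective R)) (by
        rw [imageD, sSup_image, ← (Subgroup.gc_map_comap _).l_sSup, hgen]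
        exact Subgroup.map_top_of_surjective _ (QuotientGroup.mk'_surjective R))
      _ ⟨A, hA, rfl⟩
    obtain ⟨Q1, hQ1, hmap, hnorm⟩ := lift_of_central h.prime_q R hRc hco Mb hMq
    have hQ1n : Q1.Normal := by
      haveI := hMn.comap (QuotientGroup.mk' R)
      rw [Subgroup.normalizer_eq_top] at hnorm
      exact Subgroup.normalizer_eq_top_iff.1 (top_le_iff.1 hnorm)
    have hQ1b : Q1 = ⊥ := by
      by_contra e; exact hex Q1 hQ1n e hQ1
    rw [← hmap, hQ1b, Subgroup.map_bot, bot_sup_eq] at hMA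
    refine key fun B hB a ha b hb => ?_
    have h1 : (b : G ⧸ R) ∈ A.map (QuotientGroup.mk' R) := by
      have := hMA
      dsimp only at this
      rw [this]; exact Subgroup.mem_top _
    obtain ⟨a', ha', he⟩ := h1
    have h2 : a'⁻¹ * b ∈ R := QuotientGroup.eq.1 he
    have h3 : b = a' * (a'⁻¹ * b) := by group
    rw [h3]
    refine Commute.mul_left ?_ (Subgroup.mem_center_iff.1 (hRc h2) a).symm
    haveI : IsCyclic A := isCyclic_of_prime_card (hp := h.fact_p) (h.card A hA)
    exact congrArg Subtype.val ((IsCyclic.commGroup (α := A)).mul_comm ⟨a', ha'⟩ ⟨a, ha⟩)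

theorem PairSys.flat_top (h : PairSys p q D) (hsol : Group.IsSolvable G) (hgen : sSup D = ⊤)
    {A : Subgroup G} (hA : A ∈ D) :
    ∃ Q : Subgroup G, Q.Normal ∧ Tight q A Q ∧ Q ⊔ A = ⊤ := by
  haveI := h.fact_p
  haveI := h.fact_q
  obtain ⟨M, hMn, hMq, hMA⟩ := flat_top_aux _ G D rfl h hsol hgen A hA
  haveI := hMn
  have hAM : A ≤ Subgroup.normalizer (M : Set G) := by
    rw [Subgroup.normalizer_eq_top]; exact le_top
  obtain ⟨ht, hle⟩ := commutator_tight h.ne (h.card A hA) hMq hAM
  have hQM : ∀ x ∈ M, ∀ y ∈ ⁅M, A⁆, x * y * x⁻¹ ∈ ⁅M, A⁆ := by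
    intro x hx y hy
    rw [Subgroup.commutator_def] at hy
    induction hy using Subgroup.closure_induction with
    | mem y hy =>
      obtain ⟨z, hz, a, ha, rfl⟩ := hy
      have e : x * ⁅z, a⁆ * x⁻¹ = ⁅x * z, a⁆ * ⁅x, a⁆⁻¹ := by
        simp only [commutatorElement_def]; group
      rw [e]
      exact mul_mem (Subgroup.commutator_mem_commutator (M.mul_mem hx hz) ha)
        (inv_mem (Subgroup.commutator_mem_commutator hx ha))
    | one => simp
    | mul y z _ _ ihy ihz => simpa [mul_assoc] using mul_mem ihy ihz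
    | inv y _ ih => simpa [mul_assoc] using inv_mem ih
  have hnQ : M ≤ Subgroup.normalizer ((⁅M, A⁆ : Subgroup G) : Set G) :=
    Subgroup.le_normalizer_iff.2 hQM
  have htop : ⊤ ≤ Subgroup.normalizer ((⁅M, A⁆ : Subgroup G) : Set G) :=
    hMA ▸ sup_le hnQ ht.2.1
  haveI hQn : (⁅M, A⁆).Normal := Subgroup.normalizer_eq_top_iff.1 (top_le_iff.1 htop)
  refine ⟨⁅M, A⁆, hQn, ht, top_le_iff.1 ?_⟩
  rw [← hgen]
  refine sSup_le fun B hB => ?_
  obtain ⟨k, hk, rfl⟩ := h.exists_conj hA hB hMq hAM (by rw [hMA]; exact le_top)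
  intro x hx
  rw [mem_conjS] at hx
  have e : x = ⁅k, k⁻¹ * x * k⁆ * (k⁻¹ * x * k) := by rw [commutatorElement_def]; group
  rw [e]
  exact mul_mem (le_sup_left (b := A) (Subgroup.commutator_mem_commutator hk hx))
    (le_sup_right (a := ⁅M, A⁆) hx)

/-- The subgroup generated by the `q`-elements of `H`. -/
def qPart (q : ℕ) (H : Subgroup G) : Subgroup G :=
  Subgroup.closure {x | x ∈ H ∧ ∃ n : ℕ, x ^ q ^ n = 1}

theorem qPart_le (H : Subgroup G) : qPart q H ≤ H :=
  (Subgroup.closure_le H).2 fun _ hx => hx.1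

theorem qPart_mono {H H' : Subgroup G} (h : H ≤ H') : qPart q H ≤ qPart q H' :=
  Subgroup.closure_mono fun _ hx => ⟨h hx.1, hx.2⟩

theorem le_qPart {Q H : Subgroup G} (hQ : IsPGroup q Q) (hle : Q ≤ H) : Q ≤ qPart q H := fun x hx =>
  Subgroup.subset_closure ⟨hle hx, by
    obtain ⟨n, hn⟩ := hQ ⟨x, hx⟩
    exact ⟨n, by simpa using congrArg Subtype.val hn⟩⟩

theorem conjS_qPart (g : G) (H : Subgroup G) : conjS g (qPart q H) = qPart q (conjS g H) := by
  unfold conjS qPart
  rw [MonoidHom.map_closure]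
  congr 1
  ext x
  constructor
  · rintro ⟨y, ⟨hy, n, hn⟩, rfl⟩
    exact ⟨⟨y, hy, rfl⟩, n, by rw [← map_pow, hn, map_one]⟩
  · rintro ⟨⟨y, hy, rfl⟩, n, hn⟩
    exact ⟨y, ⟨hy, n, by rwa [← map_pow, MulEquiv.toMonoidHom_eq_coe, MonoidHom.coe_coe,
      MulEquiv.map_eq_one_iff] at hn⟩, rfl⟩

/-- The members of `D` in a subgroup. -/
def pts (D : Set (Subgroup G)) (H : Subgroup G) : Set (Subgroup G) := {A | A ∈ D ∧ A ≤ H}

/-- The subgroup they generate. -/
def gen (D : Set (Subgroup G)) (H : Subgroup G) : Subgroup G := sSup (pts D H)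

theorem gen_le (H : Subgroup G) : gen D H ≤ H := sSup_le fun _ hA => hA.2

theorem gen_gen (H : Subgroup G) : gen D (gen D H) = gen D H :=
  le_antisymm (gen_le _) (sSup_le fun _ hA => le_sSup ⟨hA.1, le_sSup hA⟩)

namespace PairSys

variable (h : PairSys p q D)

include h

theorem normalizer_le_gen (H : Subgroup G) :
    Subgroup.normalizer (H : Set G) ≤ Subgroup.normalizer ((gen D H : Subgroup G) : Set G) := by
  intro g hg
  rw [← conjS_eq_self_iff] at hg ⊢
  have key : ∀ x, conjS x H = H → conjS x (gen D H) ≤ gen D H := by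
    intro x hx
    rw [gen, conjS, sSup_eq_iSup', Subgroup.map_iSup]
    exact iSup_le fun A => le_iSup_of_le
      ⟨conjS x A.1, h.conj _ A.2.1 x, (conjS_mono A.2.2).trans hx.le⟩ le_rfl
  refine le_antisymm (key g hg) ?_
  have h2 := key g⁻¹ (by conv_lhs => rw [← hg, ← conjS_mul, inv_mul_cancel, conjS_one])
  intro x hx
  have h3 := h2 (conj_mem_conjS (g := g⁻¹) hx)
  rw [inv_inv] at h3
  have h4 := conj_mem_conjS (g := g) h3
  simpa [mul_assoc] using h4

/-- The structure of an odd order subgroup generated by members of `D`. -/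
theorem flat {H : Subgroup G} (hodd : Odd (Nat.card H)) (hgen : gen D H = H) {A : Subgroup G}
    (hA : A ∈ D) (hAH : A ≤ H) :
    Tight q A (qPart q H) ∧ H ≤ Subgroup.normalizer ((qPart q H : Subgroup G) : Set G) ∧
      qPart q H ⊔ A = H := by
  haveI := h.fact_p
  haveI := h.fact_q
  have hmapA : (A.subgroupOf H).map H.subtype = A := by
    rw [Subgroup.subgroupOf_map_subtype, inf_eq_left.2 hAH]
  have hgen' : sSup (restrictD D H) = ⊤ := by
    apply Subgroup.map_injective H.subtype_injective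
    rw [(Subgroup.gc_map_comap _).l_sSup, ← MonoidHom.range_eq_map, Subgroup.range_subtype]
    refine le_antisymm (iSup₂_le fun B _ => Subgroup.map_subtype_le B) ?_
    conv_lhs => rw [← hgen]
    refine sSup_le fun B hB => ?_
    have hm : (B.subgroupOf H).map H.subtype = B := by
      rw [Subgroup.subgroupOf_map_subtype, inf_eq_left.2 hB.2]
    exact le_iSup₂_of_le (B.subgroupOf H) (show (B.subgroupOf H).map H.subtype ∈ D by rw [hm]; exact hB.1)
      hm.ge
  obtain ⟨Q, hQn, ht, hQA⟩ := (h.restrict H).flat_top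
    (Cfsg.Agent.OddChar.oddSolvable H hodd) hgen'
    (A := A.subgroupOf H) (show (A.subgroupOf H).map H.subtype ∈ D by rw [hmapA]; exact hA)
  have ht' := tight_map H.subtype ht
  rw [hmapA] at ht'
  have hsup : Q.map H.subtype ⊔ A = H := by
    conv_lhs => rw [← hmapA, ← Subgroup.map_sup, hQA, ← MonoidHom.range_eq_map, Subgroup.range_subtype]
  have hnorm : H ≤ Subgroup.normalizer ((Q.map H.subtype : Subgroup G) : Set G) :=
    hsup.ge.trans (sup_le Subgroup.le_normalizer ht'.2.1)
  have hq : qPart q H = Q.map H.subtype := by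
    refine le_antisymm ((Subgroup.closure_le _).2 ?_) (le_qPart ht'.1 (Subgroup.map_subtype_le Q))
    rintro x ⟨hx, n, hn⟩
    exact h.qmem_of_mem_sup hA ht'.1 ht'.2.1 (hsup.symm ▸ hx) hn
  rw [hq]
  exact ⟨ht', hnorm, hsup⟩

end PairSys

end Cfsg.Agent.OddPairs
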