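import Cfsg.Agent.Lib.OddPairs.Bad

/-!
# Involutions

Every involution centralises a member of `D`; the product of an involution with an element of a
member is conjugate to the involution times an element of a normal odd subgroup of its centraliser.
-/

set_option autoImplicit false
set_option linter.unusedSectionVars false
set_option linter.style.haveILetI false

namespace Cfsg.Agent.OddPairs

open scoped commutatorElement

universe u

variable {G : Type u} [Group G] [Finite G] {p q : ℕ} {D : Set (Subgroup G)}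

/-- The number of conjugates under a subgroup. -/
theorem ncard_image_conjS (S A : Subgroup G) :
    ((fun k => conjS k A) '' (S : Set G)).ncard = (Subgroup.normalizer (A : Set G)).relIndex S := by
  have key : ∀ k k' : S, conjS (k : G) A = conjS (k' : G) A ↔
      k⁻¹ * k' ∈ (Subgroup.normalizer (A : Set G)).subgroupOf S := by
    intro k k'
    rw [Subgroup.mem_subgroupOf, ← conjS_eq_self_iff]
    simp only [Subgroup.coe_mul, Subgroup.coe_inv, conjS_mul]
    constructor
    · intro e; rw [← e, ← conjS_mul, inv_mul_cancel, conjS_one]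
    · intro e
      conv_lhs => rw [← e, ← conjS_mul, mul_inv_cancel, conjS_one]
  let f : (S ⧸ (Subgroup.normalizer (A : Set G)).subgroupOf S) → Subgroup G :=
    Quotient.lift (fun k : S => conjS (k : G) A) fun k k' hk =>
      (key k k').2 (QuotientGroup.leftRel_apply.1 hk)
  have hinj : Function.Injective f := fun x y => by
    induction x using QuotientGroup.induction_on with
    | _ k =>
      induction y using QuotientGroup.induction_on with
      | _ k' => exact fun e => QuotientGroup.eq.2 ((key k k').1 e)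
  have hrange : Set.range f = (fun k => conjS k A) '' (S : Set G) := by
    ext B
    constructor
    · rintro ⟨x, rfl⟩
      induction x using QuotientGroup.induction_on with
      | _ k => exact ⟨k, k.2, rfl⟩
    · rintro ⟨k, hk, rfl⟩
      exact ⟨QuotientGroup.mk ⟨k, hk⟩, rfl⟩
  rw [← hrange, ← Nat.card_coe_set_eq, Nat.card_range_of_injective hinj]
  rfl

/-- A permutation of odd finite set by an element of order dividing two fixes a point. -/
theorem exists_fixed {S : Set (Subgroup G)} (hodd : Odd S.ncard) {t : G} (ht : t * t = 1)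
    (hS : ∀ B ∈ S, conjS t B ∈ S) : ∃ B ∈ S, conjS t B = B := by
  classical
  haveI : Fintype S := Fintype.ofFinite _
  let f : S → S := fun B => ⟨conjS t B.1, hS _ B.2⟩
  have hf : Function.Involutive f := fun B => Subtype.ext (by
    show conjS t (conjS t B.1) = B.1
    rw [← conjS_mul, ht, conjS_one])
  haveI : Fact (Nat.Prime 2) := ⟨Nat.prime_two⟩
  obtain ⟨B, hB⟩ := Equiv.Perm.exists_fixed_point_of_prime (p := 2) (n := 1)
    (by
      rw [← Nat.card_eq_fintype_card, Nat.card_coe_set_eq]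
      exact fun h => Nat.not_even_iff_odd.2 hodd (even_iff_two_dvd.2 h))
    (σ := hf.toPerm) (Equiv.ext fun B => by
      rw [pow_one, pow_two, Equiv.Perm.mul_apply]
      exact hf B)
  exact ⟨B.1, B.2, congrArg Subtype.val hB⟩

namespace PairSys

variable (h : PairSys p q D)

include h

theorem mem_pts_sup {A B E : Subgroup G} (hA : A ∈ D) (hB : B ∈ D) (hne : A ≠ B)
    (hE : E ∈ pts D (A ⊔ B)) (hEA : E ≠ A) : A ⊔ E = A ⊔ B :=
  le_antisymm (sup_le le_sup_left hE.2)
    (h.minimal A hA B hB A hA E hE.1 hne hEA.symm le_sup_left hE.2)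

theorem odd_pts_sup {A B : Subgroup G} (hA : A ∈ D) (hB : B ∈ D) (hne : A ≠ B) :
    Odd (pts D (A ⊔ B)).ncard := by
  haveI := h.fact_q
  obtain ⟨K, hK, hsup, hn⟩ := h.pair A hA B hB hne
  have e : pts D (A ⊔ B) = (fun k => conjS k A) '' (K : Set G) := by
    ext E
    constructor
    · intro hE
      obtain ⟨k, hk, rfl⟩ := h.exists_conj hA hE.1 hK (le_sup_left.trans hn) (hsup ▸ hE.2)
      exact ⟨k, hk, rfl⟩
    · rintro ⟨k, hk, rfl⟩
      exact ⟨h.conj A hA k, conjS_le le_sup_left (hsup ▸ le_sup_left (b := A) hk)⟩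
  rw [e, ncard_image_conjS]
  obtain ⟨n, hn'⟩ := IsPGroup.iff_card.1 hK
  exact Odd.of_dvd_nat (hn' ▸ (h.prime_q.odd_of_ne_two h.odd_q).pow)
    (Subgroup.index_dvd_card _)

theorem exists_conj_all {A B : Subgroup G} (hA : A ∈ D) (hB : B ∈ D) : ∃ g : G, B = conjS g A := by
  by_cases hne : A = B
  · exact ⟨1, by rw [conjS_one, hne]⟩
  · obtain ⟨K, hK, hsup, hn⟩ := h.pair A hA B hB hne
    obtain ⟨k, -, e⟩ := h.exists_conj hA hB hK (le_sup_left.trans hn) (hsup ▸ le_sup_right)
    exact ⟨k, e⟩

theorem odd_D {A : Subgroup G} (hA : A ∈ D) : Odd D.ncard := by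
  classical
  set s := (Set.toFinite (D \ {A})).toFinset with hs
  have hmem : ∀ B, B ∈ s ↔ B ∈ D ∧ B ≠ A := fun B => by simp [hs]
  have heven : Even s.card := by
    rw [Finset.card_eq_sum_card_fiberwise (f := fun B => A ⊔ B) (t := s.image fun B => A ⊔ B)
      (fun B hB => Finset.mem_image_of_mem _ hB)]
    refine Finset.even_sum _ fun F hF => ?_
    obtain ⟨B, hB, rfl⟩ := Finset.mem_image.1 hF
    obtain ⟨hBD, hBA⟩ := (hmem B).1 hB
    have hset : ((s.filter fun E => A ⊔ E = A ⊔ B) : Set (Subgroup G)) = pts D (A ⊔ B) \ {A} := by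
      ext E
      simp only [Finset.coe_filter, Set.mem_ofPred_eq, Set.mem_sdiff, Set.mem_singleton_iff, hmem]
      constructor
      · rintro ⟨⟨hE, hEA⟩, e⟩
        exact ⟨⟨hE, e ▸ le_sup_right⟩, hEA⟩
      · rintro ⟨hE, hEA⟩
        exact ⟨⟨hE.1, hEA⟩, h.mem_pts_sup hA hBD hBA.symm hE hEA⟩
    rw [← Set.ncard_coe_finset, hset,
      Set.ncard_sdiff_singleton_of_mem (show A ∈ pts D (A ⊔ B) from ⟨hA, le_sup_left⟩)]
    obtain ⟨m, hm⟩ := h.odd_pts_sup hA hBD hBA.symm
    exact ⟨m, by omega⟩
  rw [← Set.ncard_coe_finset, hs, Set.Finite.coe_toFinset, Set.ncard_sdiff_singleton_of_mem hA] at heven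
  obtain ⟨m, hm⟩ := heven
  have : 0 < D.ncard := (Set.ncard_pos (Set.toFinite _)).2 ⟨A, hA⟩
  exact ⟨m, by omega⟩

theorem index_normalizer {A : Subgroup G} (hA : A ∈ D) :
    (Subgroup.normalizer (A : Set G)).index = D.ncard := by
  rw [← Subgroup.relIndex_top_right, ← ncard_image_conjS]
  congr 1
  ext B
  constructor
  · rintro ⟨g, -, rfl⟩; exact h.conj A hA g
  · intro hB
    obtain ⟨g, rfl⟩ := h.exists_conj_all hA hB
    exact ⟨g, Subgroup.mem_top g, rfl⟩

/-- An involution normalising a member centralises it. -/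
theorem invol_commute (hgen : sSup D = ⊤) {A : Subgroup G} (hA : A ∈ D) {t : G} (ht : t * t = 1)
    (hn : conjS t A = A) : ∀ a ∈ A, Commute t a := by
  classical
  haveI := h.fact_p
  haveI : IsCyclic A := isCyclic_of_prime_card (h.card A hA)
  haveI : NeZero (Nat.card A) := ⟨Nat.card_pos.ne'⟩
  have htN := conjS_eq_self_iff.1 hn
  let φ : Subgroup.normalizer (A : Set G) →* (ZMod (Nat.card A))ˣ :=
    (IsCyclic.mulAutMulEquiv A).toMonoidHom.comp A.normalizerMonoidHom
  haveI : (Subgroup.normalizer (A : Set G)).FiniteIndex := inferInstance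
  let V : G →* (ZMod (Nat.card A))ˣ := MonoidHom.transfer φ
  have hV : ∀ g, V g = 1 := by
    have hle : sSup D ≤ V.ker := by
      refine sSup_le fun B hB b hb => ?_
      rw [MonoidHom.mem_ker]
      have h1 : orderOf (V b) ∣ p :=
        (orderOf_map_dvd V b).trans (h.card B hB ▸ Subgroup.orderOf_dvd_natCard B hb)
      have h2 : orderOf (V b) ∣ p - 1 := by
        have := orderOf_dvd_natCard (V b)
        rw [Nat.card_eq_fintype_card (α := (ZMod (Nat.card A))ˣ), ZMod.card_units_eq_totient] at this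
        exact this.trans (dvd_of_eq (by rw [h.card A hA, Nat.totient_prime h.prime_p]))
      refine orderOf_eq_one_iff.1 (Nat.eq_one_of_dvd_coprimes ?_ h1 h2)
      rw [h.prime_p.coprime_iff_not_dvd]
      intro hd
      have := h.prime_p.two_le
      have := Nat.le_of_dvd (by omega) hd
      omega
    intro g
    exact MonoidHom.mem_ker.1 (hle (hgen ▸ Subgroup.mem_top g))
  -- an exponent
  obtain ⟨a0, ha0⟩ := IsCyclic.exists_monoid_generator (α := A)
  obtain ⟨i, hi0⟩ := Submonoid.mem_powers_iff _ _ |>.1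
    (ha0 ⟨t * a0 * t⁻¹, (Subgroup.mem_normalizer_iff.1 htN a0).1 a0.2⟩)
  have hi : ∀ a ∈ A, t * a * t⁻¹ = a ^ i := by
    intro a ha
    obtain ⟨j, hj⟩ := Submonoid.mem_powers_iff _ _ |>.1 (ha0 ⟨a, ha⟩)
    have e : t * (a0 : G) * t⁻¹ = (a0 : G) ^ i := by
      simpa using (congrArg Subtype.val hi0).symm
    have ej : (a0 : G) ^ j = a := by simpa using congrArg Subtype.val hj
    rw [← ej, ← conj_pow, e, ← pow_mul, ← pow_mul, mul_comm]
  have key : ∀ (k : ℕ) (g : G) (hg : g⁻¹ * t ^ k * g ∈ Subgroup.normalizer (A : Set G)),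
      φ ⟨g⁻¹ * t ^ k * g, hg⟩ = φ ⟨t, htN⟩ ^ k := by
    intro k g hg
    rw [← map_pow]
    refine congrArg (IsCyclic.mulAutMulEquiv A).toMonoidHom ?_
    rcases Nat.even_or_odd' k with ⟨m, rfl | rfl⟩
    · have e : t ^ (2 * m) = 1 := by rw [pow_mul, pow_two, ht, one_pow]
      congr 1
      exact Subtype.ext (by simp [e])
    · have e : t ^ (2 * m + 1) = t := by rw [pow_succ, pow_mul, pow_two, ht, one_pow, one_mul]
      refine MulEquiv.ext fun a => Subtype.ext ?_
      show g⁻¹ * t ^ (2 * m + 1) * g * (a : G) * (g⁻¹ * t ^ (2 * m + 1) * g)⁻¹ =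
        ((⟨t, htN⟩ : Subgroup.normalizer (A : Set G)) ^ (2 * m + 1) : G) * a *
          ((⟨t, htN⟩ : Subgroup.normalizer (A : Set G)) ^ (2 * m + 1) : G)⁻¹
      simp only [e]
      rw [hi a a.2]
      have hB : conjS g A ∈ D := h.conj A hA g
      have htB : t ∈ Subgroup.normalizer ((conjS g A : Subgroup G) : Set G) := by
        rw [← conjS_eq_self_iff, ← conjS_mul]
        have h1 := conjS_eq_self_iff.2 hg
        rw [e] at h1
        conv_lhs => rw [show t * g = g * (g⁻¹ * t * g) by group, conjS_mul, h1]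
      have hexp : t * (g * a * g⁻¹) * t⁻¹ = (g * a * g⁻¹) ^ i := by
        by_cases hgA : A = conjS g A
        · exact hi _ (le_of_eq hgA.symm (conj_mem_conjS a.2))
        · exact h.exponent_eq hA hB hgA htN htB hi _ (conj_mem_conjS a.2)
      rw [conj_pow] at hexp
      calc g⁻¹ * t * g * a * (g⁻¹ * t * g)⁻¹ = g⁻¹ * (t * (g * a * g⁻¹) * t⁻¹) * g := by group
        _ = g⁻¹ * (g * (a : G) ^ i * g⁻¹) * g := by rw [hexp]
        _ = (a : G) ^ i := by group
  have hVt : V t = φ ⟨t, htN⟩ ^ (Subgroup.normalizer (A : Set G)).index := by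
    haveI : Fintype (Quotient (MulAction.orbitRel (Subgroup.zpowers t)
      (G ⧸ Subgroup.normalizer (A : Set G)))) := Fintype.ofFinite _
    show MonoidHom.transfer φ t = _
    rw [MonoidHom.transfer_eq_prod_quotient_orbitRel_zpowers_quot,
      Finset.prod_congr rfl (fun x _ => key _ _ _), Finset.prod_pow_eq_pow_sum,
      ← Subgroup.index_eq_sum_minimalPeriod]
  have h2 : φ ⟨t, htN⟩ ^ 2 = 1 := by
    rw [← map_pow]
    convert map_one φ
    exact Subtype.ext (by simp [pow_two, ht])
  obtain ⟨m, hm⟩ := h.odd_D hA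
  rw [hV, h.index_normalizer hA, hm, pow_succ, pow_mul, h2, one_pow, one_mul] at hVt
  have h4 : A.normalizerMonoidHom ⟨t, htN⟩ = 1 :=
    (MulEquiv.map_eq_one_iff (IsCyclic.mulAutMulEquiv A)).1 hVt.symm
  have h5 : (⟨t, htN⟩ : Subgroup.normalizer (A : Set G)) ∈ A.normalizerMonoidHom.ker := h4
  rw [Subgroup.normalizerMonoidHom_ker, Subgroup.mem_subgroupOf] at h5
  intro a ha
  exact ((Subgroup.mem_centralizer_iff.1 h5) a ha).symm

end PairSys

end Cfsg.Agent.OddPairs
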