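import Cfsg.Agent.Lib.OddPairs.Central
import Cfsg.Agent.Lib.Blocks.SecondMain
import Cfsg.Agent.Lib.Blocks.Misc
import Cfsg.Agent.Lib.Char.GlaubermanMod
import Cfsg.Agent.Lib.Char.Complete
import Cfsg.Agent.Lib.Char.Integral

/-!
# The group has odd order

The principal 2-block rules out an involution in a smallest counterexample.
-/

set_option autoImplicit false
set_option linter.unusedSectionVars false
set_option linter.style.haveILetI false

namespace Cfsg.Agent.OddPairs

open Cfsg Cfsg.Agent.Char Cfsg.Agent.Blocks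
open scoped ComplexConjugate

universe u

variable {G : Type u} [Group G] [Finite G] {p q : ℕ} {D : Set (Subgroup G)}

theorem Critical.false (hc : Critical p q D) : False := by
  classical
  haveI : Fintype G := Fintype.ofFinite G
  haveI : Fact (Nat.Prime 2) := ⟨Nat.prime_two⟩
  obtain ⟨t, ht⟩ := exists_prime_orderOf_dvd_card' 2
    (even_iff_two_dvd.1 (Nat.not_odd_iff_even.1 hc.even))
  have ht2 : t * t = 1 := by rw [← pow_two, ← ht]; exact pow_orderOf_eq_one t
  have ht1 : t ≠ 1 := by rintro rfl; simp at ht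
  obtain ⟨N, hNodd, hNC, hNn, hprod⟩ := hc.exists_normal_odd ht2 ht1
  obtain ⟨M, hM⟩ := GlaubermanMod.exists_isPModular 2
  haveI := hM.2.1
  set C := Subgroup.centralizer ({t} : Set G) with hC
  haveI : Fintype C := Fintype.ofFinite _
  haveI hN' : (N.subgroupOf C).Normal := (Subgroup.normal_subgroupOf_iff_le_normalizer hNC).2 hNn
  have hsec : ∀ χ ∈ principalBlock M G, ∀ z ∈ N, (χ : G → ℂ) (t * z) = (χ : G → ℂ) t := by
    intro χ hχ z hz
    exact irr_section_of_kernel hM (x := t) ⟨1, by rw [ht, pow_one]⟩ (C := C) hC hχ (N.subgroupOf C)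
      (by
        rw [Nat.card_congr (Subgroup.subgroupOfEquivOfLe hNC).toEquiv]
        exact fun h => Nat.not_even_iff_odd.2 hNodd (even_iff_two_dvd.2 h))
      (v := ⟨z, hNC hz⟩) (Subgroup.mem_subgroupOf.2 hz)
  obtain ⟨A, hA⟩ : D.Nonempty := by
    by_contra he
    rw [Set.not_nonempty_iff_eq_empty] at he
    have := hc.gen_top
    rw [he, sSup_empty] at this
    exact ht1 (Subgroup.mem_bot.1 (this ▸ Subgroup.mem_top t))
  obtain ⟨a, ha, ha1⟩ := (Subgroup.bot_or_exists_ne_one A).resolve_left (hc.sys.ne_bot hA)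
  have hval : ∀ χ ∈ principalBlock M G, ∀ x y : G, IsConj a x → IsConj t y →
      (χ : G → ℂ) (x * y) = (χ : G → ℂ) t := by
    intro χ hχ x y hx hy
    have hcf := fun g c : G => irr_conj_invariant χ g c
    obtain ⟨f, rfl⟩ := isConj_iff.1 hx
    obtain ⟨g, rfl⟩ := isConj_iff.1 hy
    obtain ⟨z, hz, hconj⟩ := hprod _ (hc.sys.conj A hA (g⁻¹ * f)) _
      (conj_mem_conjS (g := g⁻¹ * f) ha)
    obtain ⟨k, hk⟩ := isConj_iff.1 hconj
    rw [← hsec χ hχ z hz, ← hk, hcf, ← hcf (t * _) ((f * a * f⁻¹) * g)]
    group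
  have hker : ∀ χ ∈ principalBlock M G, χ ≠ Char.principal G → (χ : G → ℂ) t = 0 := by
    intro χ hχ hne
    by_contra h0
    have h1 := irr_mul_of_const χ a t fun x y hx hy =>
      (hval χ hχ x y hx hy).trans (hval χ hχ a t (IsConj.refl a) (IsConj.refl t)).symm
    rw [hval χ hχ a t (IsConj.refl a) (IsConj.refl t)] at h1
    obtain ⟨K, hK, hmem, -⟩ := Cfsg.Agent.Char.IsCharacter.exists_kernel (irr_isCharacter χ)
    haveI := hK
    have haK : a ∈ K := (hmem a).2 (mul_right_cancel₀ h0 h1)
    have hAK : A ≤ K := by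
      intro x hx
      haveI := hc.sys.fact_p
      obtain ⟨i, hi⟩ := mem_powers_of_prime_card (h := hc.sys.card A hA)
        (g' := (⟨x, hx⟩ : A)) (g := (⟨a, ha⟩ : A)) (fun e => ha1 (congrArg Subtype.val e))
      have := congrArg Subtype.val hi
      simp only [SubmonoidClass.coe_pow] at this
      exact this ▸ pow_mem haK i
    have htop : K = ⊤ := top_le_iff.1 (hc.gen_top ▸ sSup_le fun B hB => by
      obtain ⟨g, rfl⟩ := hc.sys.exists_conj_all hA hB
      intro x hx
      have := hK.conj_mem _ (hAK (mem_conjS.1 hx)) g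
      simpa [mul_assoc] using this)
    have hconst : ∀ g, (χ : G → ℂ) g = (χ : G → ℂ) 1 := fun g =>
      (hmem g).1 (htop ▸ Subgroup.mem_top g)
    have h2 := classInner_irr_of_ne χ.2 isIrrCharacter_one (fun e => hne (Subtype.ext e))
    simp only [Cfsg.classInner, hconst, map_one, mul_one, Finset.sum_const, Finset.card_univ,
      nsmul_eq_mul, ← Nat.card_eq_fintype_card] at h2
    rw [← mul_assoc, inv_mul_cancel₀ (Nat.cast_ne_zero.2 Nat.card_pos.ne'), one_mul] at h2
    exact irr_one_ne_zero χ h2
  have h0 := blockPair_regular_singular hM (isPBlock_principalBlock M G) (u := (1 : G)) (w := t)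
    (by simp) (by rw [ht])
  unfold blockPair at h0
  rw [Finset.sum_eq_single (Char.principal G)] at h0
  · simp [Char.principal] at h0
  · intro χ hχ hne
    rw [hker χ (Finset.mem_filter.1 hχ).2 hne]; simp
  · intro hcon
    exact absurd (Finset.mem_filter.2 ⟨Finset.mem_univ _, principal_mem_principalBlock⟩) hcon

theorem odd_aux : ∀ (n : ℕ) (G : Type u) [Group G] [Finite G] (D : Set (Subgroup G)),
    Nat.card G = n → PairSys p q D → sSup D = ⊤ → Odd n := by
  intro n
  induction n using Nat.strong_induction_on with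
  | _ n ih =>
  intro G _ _ D hn h hgen
  by_contra heven
  subst hn
  haveI := h.fact_q
  obtain ⟨A, hA⟩ : D.Nonempty := by
    by_contra he
    rw [Set.not_nonempty_iff_eq_empty] at he
    rw [he, sSup_empty] at hgen
    exact heven (by rw [← Subgroup.card_top (G := G), ← hgen, Subgroup.card_bot]; exact odd_one)
  -- quotients are odd
  have hquot : ∀ (N : Subgroup G) [N.Normal], N ≠ ⊥ → PairSys p q (imageD D N) →
      Odd (Nat.card (G ⧸ N)) := by
    intro N _ hN hsys
    refine ih _ ?_ (G ⧸ N) (imageD D N) rfl hsys ?_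
    · rw [← Subgroup.index_eq_card, ← N.card_mul_index]
      exact lt_mul_of_one_lt_left (Nat.pos_of_ne_zero Subgroup.index_ne_zero_of_finite)
        (Finite.one_lt_card_iff_nontrivial.2 ((Subgroup.nontrivial_iff_ne_bot N).2 hN))
    · rw [imageD, sSup_image, ← (Subgroup.gc_map_comap _).l_sSup, hgen]
      exact Subgroup.map_top_of_surjective _ (QuotientGroup.mk'_surjective N)
  have hcardeq : ∀ (N : Subgroup G), Nat.card G = Nat.card N * N.index := fun N => N.card_mul_index.symm
  refine Critical.false (p := p) (q := q) (D := D) ?_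
  have hnoq : ∀ N : Subgroup G, N.Normal → IsPGroup q N → N = ⊥ := by
    intro N hNn hNq
    by_contra hN
    haveI := hNn
    have hNA : ∀ B ∈ D, ¬ B ≤ N := fun B hB hle => h.ne_bot hB
      (disjoint_self.1 (Disjoint.mono_left hle (h.disjoint_qp hNq (h.isPGroup hB))))
    have h1 := hquot N hN (h.quotient N hNA (lift_of_qgroup N hNq))
    obtain ⟨m, hm⟩ := IsPGroup.iff_card.1 hNq
    refine heven ?_
    rw [hcardeq N, hm, Subgroup.index_eq_card]
    exact ((h.prime_q.odd_of_ne_two h.odd_q).pow).mul h1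
  refine ⟨h, hgen, heven, fun H hH hgH hne => ?_, hnoq, ?_⟩
  · obtain ⟨B, hB⟩ := hne
    have hgen' : sSup (restrictD D H) = ⊤ := by
      apply Subgroup.map_injective H.subtype_injective
      rw [(Subgroup.gc_map_comap _).l_sSup, ← MonoidHom.range_eq_map, Subgroup.range_subtype]
      refine le_antisymm (iSup₂_le fun B _ => Subgroup.map_subtype_le B) ?_
      conv_lhs => rw [← hgH]
      refine sSup_le fun E hE => ?_
      have hm : (E.subgroupOf H).map H.subtype = E := by
        rw [Subgroup.subgroupOf_map_subtype, inf_eq_left.2 hE.2]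
      exact le_iSup₂_of_le (E.subgroupOf H)
        (show (E.subgroupOf H).map H.subtype ∈ D by rw [hm]; exact hE.1) hm.ge
    refine ih _ ?_ H (restrictD D H) rfl (h.restrict H) hgen'
    rw [hcardeq H]
    refine lt_mul_of_one_lt_right Nat.card_pos ?_
    rcases Nat.lt_or_ge 1 H.index with h1 | h1
    · exact h1
    · exact absurd (Subgroup.index_eq_one.1 (le_antisymm h1
        (Nat.one_le_iff_ne_zero.2 Subgroup.index_ne_zero_of_finite))) hH
  · by_contra hZ
    have hne : Subgroup.center G ≠ ⊥ := hZ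
    obtain ⟨z, hz, hz1⟩ := (Subgroup.bot_or_exists_ne_one _).resolve_left hne
    obtain ⟨r, hr, hrd⟩ := Nat.exists_prime_and_dvd (n := orderOf z) (fun e => hz1 (orderOf_eq_one_iff.1 e))
    set w := z ^ (orderOf z / r) with hw
    have hwo : orderOf w = r := by
      rw [hw, orderOf_pow_orderOf_div (orderOf_pos z).ne' hrd]
    set N := Subgroup.zpowers w with hNdef
    have hNc : N ≤ Subgroup.center G := Subgroup.zpowers_le.2 (pow_mem hz _)
    haveI hNn : N.Normal := ⟨fun x hx g => by
      rwa [(Subgroup.mem_center_iff.1 (hNc hx) g), mul_inv_cancel_right]⟩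
    have hNcard : Nat.card N = r := by rw [hNdef, Nat.card_zpowers, hwo]
    have hN : N ≠ ⊥ := by
      intro e
      rw [e, Subgroup.card_bot] at hNcard
      exact hr.ne_one hNcard.symm
    have hrq : r ≠ q := by
      intro e
      exact hN (hnoq N hNn (IsPGroup.of_card (n := 1) (by rw [hNcard, e, pow_one])))
    have hNA : ∀ B ∈ D, ¬ B ≤ N := by
      intro B hB hle
      refine heven ?_
      have htop : B = ⊤ := top_le_iff.1 (hgen ▸ sSup_le fun E hE =>
        (h.eq_of_commute hB hE fun e _ b hb => (Subgroup.mem_center_iff.1 (hNc (hle hb))) e).ge)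
      rw [← Subgroup.card_top (G := G), ← htop, h.card B hB]
      exact h.prime_p.odd_of_ne_two h.odd_p
    have h1 := hquot N hN (h.quotient N hNA (lift_of_central h.prime_q N hNc (by
      rw [hNcard]; exact fun hd => hrq ((Nat.prime_dvd_prime_iff_eq h.prime_q hr).1 hd).symm)))
    rcases hr.eq_two_or_odd' with rfl | hodd
    · -- a central involution splits off
      have h2 : N.index % 2 = 1 := by rw [Subgroup.index_eq_card]; exact Nat.odd_iff.1 h1
      obtain ⟨H, hH⟩ := Subgroup.exists_right_complement'_of_coprime (N := N)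
        (by rw [hNcard, Nat.coprime_two_left, Nat.odd_iff]; exact h2)
      have hHtop : H = ⊤ := top_le_iff.1 (hgen ▸ sSup_le fun B hB x hx => by
        obtain ⟨⟨⟨n, hn⟩, ⟨k, hk⟩⟩, rfl⟩ := hH.2 x
        have hc : Commute n k := (Subgroup.mem_center_iff.1 (hNc hn) k).symm
        have hxp : (n * k) ^ p = 1 := orderOf_dvd_iff_pow_eq_one.1
          (h.card B hB ▸ Subgroup.orderOf_dvd_natCard B hx)
        rw [hc.mul_pow] at hxp
        have hn1 : n ^ p ∈ N ⊓ H := ⟨N.pow_mem hn p, by
          rw [eq_inv_of_mul_eq_one_left hxp]; exact H.inv_mem (H.pow_mem hk p)⟩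
        rw [hH.disjoint.eq_bot, Subgroup.mem_bot] at hn1
        have : n = 1 := orderOf_eq_one_iff.1 (Nat.eq_one_of_dvd_coprimes
          ((Nat.coprime_primes h.prime_p Nat.prime_two).2 h.odd_p)
          (orderOf_dvd_of_pow_eq_one hn1) (hNcard ▸ Subgroup.orderOf_dvd_natCard N hn))
        show n * k ∈ H
        rw [this, one_mul]; exact hk)
      exact hN (by rw [← hH.disjoint.eq_bot, hHtop, inf_top_eq])
    · refine heven ?_
      rw [hcardeq N, hNcard, Subgroup.index_eq_card]
      exact hodd.mul h1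

/-- A group generated by `D` has odd order. -/
theorem PairSys.odd (h : PairSys p q D) (hgen : sSup D = ⊤) : Odd (Nat.card G) :=
  odd_aux _ G D rfl h hgen

end Cfsg.Agent.OddPairs
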